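import Cfsg.Agent.H760.PairFull
import Cfsg.Agent.H761.TitsFull
import Cfsg.Agent.H42.Tw.AbF4
import Cfsg.Agent.H392.TwFFour.Final
/-!
# `FullP 3` for `²F₄(q)`, `q > 2` (helper760, S5116)
-/
set_option autoImplicit false

namespace Cfsg.Agent.H760.TwFFull

open Subgroup Cfsg Cfsg.Lie Cfsg.Agent.H749 Cfsg.Agent.H792.SpTool Cfsg.Agent.H42.Tw Cfsg.Agent.KFacts.TwF4 Cfsg.Agent.SplitTwo.ZS

/-! ### arithmetic -/

theorem fact_aux {x y : ℕ} (hx : x ≠ 0) (hy : ¬ 3 ∣ y) :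
    (x ^ 2 * (3 * y)).factorization 3 = 2 * x.factorization 3 + 1 := by
  have hp3 : Nat.Prime 3 := Nat.prime_three
  have hy0 : y ≠ 0 := by
    rintro rfl
    exact hy (dvd_zero 3)
  rw [Nat.factorization_mul (pow_ne_zero 2 hx) (mul_ne_zero (by norm_num) hy0), Nat.factorization_pow,
    Finsupp.add_apply, Finsupp.smul_apply, smul_eq_mul, Nat.factorization_mul (by norm_num) hy0, Finsupp.add_apply,
    hp3.factorization_self, Nat.factorization_eq_zero_of_not_dvd hy]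

theorem fact_three {q : ℕ} (hq : 2 ≤ q) (h : 3 ∣ q + 1) :
    (ord q).factorization 3 = 2 * (q + 1).factorization 3 + 1 := by
  obtain ⟨k, rfl⟩ : ∃ k, q = 3 * k + 2 := ⟨(q + 1) / 3 - 1, by omega⟩
  have hp3 : Nat.Prime 3 := Nat.prime_three
  have e : ord (3 * k + 2) = (3 * k + 2 + 1) ^ 2 * (3 * ((3 * k + 2) ^ 12 * (3 * k + 1) * (3 * k + 1) *
      (3 * (k * k + k) + 1) * (3 * (3 * k * k + 4 * k + 1) + 2) *
        (3 * (9 * (3 * k * k + 4 * k + 1) ^ 3 + 9 * (3 * k * k + 4 * k + 1) ^ 2 + 3 * (3 * k * k + 4 * k + 1)) + 2))) := by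
    have h4 : (3 * k + 2) ^ 4 - 1 = (3 * k + 3) * (3 * k + 1) * ((3 * k + 2) ^ 2 + 1) := by
      have := pow_four (3 * k + 1)
      rw [show 3 * k + 1 + 1 = 3 * k + 2 by ring] at this
      rw [this]
    rw [ord, h4, show 3 * k + 2 - 1 = 3 * k + 1 by omega]
    ring
  rw [e]
  refine fact_aux (by omega) ?_
  intro hd
  have h12 : ¬ 3 ∣ (3 * k + 2) ^ 12 := fun h => by
    have := hp3.dvd_of_dvd_pow h
    omega
  rcases hp3.dvd_mul.1 hd with hd | hd
  · rcases hp3.dvd_mul.1 hd with hd | hd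
    · rcases hp3.dvd_mul.1 hd with hd | hd
      · rcases hp3.dvd_mul.1 hd with hd | hd
        · rcases hp3.dvd_mul.1 hd with hd | hd
          · exact h12 hd
          · omega
        · omega
      · omega
    · omega
  · omega

theorem three_dvd (m : ℕ) : 3 ∣ 2 ^ (2 * m + 1) + 1 := by
  have h1 : (2 : ℕ) ^ (2 * m + 1) + 1 ≡ 0 [MOD 3] := by
    rw [pow_succ, pow_mul]
    have h2 : ((2 : ℕ) ^ 2) ^ m ≡ 1 ^ m [MOD 3] := Nat.ModEq.pow m (by decide)
    rw [one_pow] at h2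
    calc (2 ^ 2) ^ m * 2 + 1 ≡ 1 * 2 + 1 [MOD 3] := (h2.mul_right 2).add_right 1
      _ ≡ 0 [MOD 3] := by decide
  exact (Nat.modEq_zero_iff_dvd).1 h1

/-! ### `²F₄(2)` -/

theorem fullP_f42 : FullP 3 ↥(Lie.twistedF4 (ZMod 2) 1) := by
  have key : ∀ K : Subgroup (GL Cfsg.Agent.ChevalleyStructure.Tits.Mat.I52 (ZMod 2)),
      K = Cfsg.Agent.ChevalleyStructure.Tits.Order.H0 → FullP 3 K := by
    rintro _ rfl
    have := Fact.mk Nat.prime_three
    refine fullP_of_subgroup (commutator _) ?_ Cfsg.Agent.H761.TitsFull.fullP_H0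
    intro hd
    have h1 := (commutator Cfsg.Agent.ChevalleyStructure.Tits.Order.H0).card_mul_index
    rw [Cfsg.Agent.H68.TitsMul.card_X, Cfsg.Agent.ChevalleyStructure.Tits.Order.card_H0] at h1
    have h2 : (commutator Cfsg.Agent.ChevalleyStructure.Tits.Order.H0).index = 2 := by
      have h3 : (2 ^ 11 * 3 ^ 3 * 5 ^ 2 * 13) * (commutator Cfsg.Agent.ChevalleyStructure.Tits.Order.H0).index =
          (2 ^ 11 * 3 ^ 3 * 5 ^ 2 * 13) * 2 := by rw [h1]; norm_num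
      exact Nat.eq_of_mul_eq_mul_left (by norm_num) h3
    rw [h2] at hd
    omega
  exact key _ Cfsg.Agent.ChevalleyStructure.Tits.Main.T0_eq_H0

/-! ### `²F₄(q)` -/

theorem fullP_twF4 (K : Type) [Field K] [Fintype K] {m : ℕ} (hm : 1 ≤ m) (hK : Fintype.card K = 2 ^ (2 * m + 1)) :
    FullP 3 ↥(Lie.twistedF4 K (2 ^ m)) := by
  have := Fact.mk Nat.prime_three
  have hchar : CharP K 2 := H318.charTwo_of_card hK
  obtain ⟨φ, hφ⟩ := Cfsg.Agent.ChevalleyStructure.TwF4.TwistedFix.exists_rln hK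
  have hF : ∃ c : Kˣ, c ≠ 1 := by
    by_contra hcon
    push Not at hcon
    have h1 : Nat.card Kˣ ≤ 1 := by
      have : Subsingleton Kˣ := ⟨fun a b => (hcon a).trans (hcon b).symm⟩
      exact Finite.card_le_one_iff_subsingleton.2 this
    rw [Nat.card_units, Nat.card_eq_fintype_card, hK] at h1
    have : 2 ^ 3 ≤ 2 ^ (2 * m + 1) := Nat.pow_le_pow_right (by norm_num) (by omega)
    omega
  have hfin : Finite ↥(Lie.twistedF4 K (2 ^ m)) := by
    have : Finite (GL chevF4.Idx K) := inferInstance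
    infer_instance
  have hc : Nat.card K = 2 ^ (2 * m + 1) := by rw [Nat.card_eq_fintype_card, hK]
  obtain ⟨S, hR⟩ : ∃ S : Full _ ↥(Lie.twistedF4 K (2 ^ m)), S.R.p = 2 := ⟨Inst.full hK hφ, rfl⟩
  have hq2 : 2 ≤ 2 ^ (2 * m + 1) := by
    calc 2 = 2 ^ 1 := by norm_num
      _ ≤ 2 ^ (2 * m + 1) := Nat.pow_le_pow_right (by norm_num) (by omega)
  have h3 := three_dvd m
  have hpq : ¬ 3 ∣ Nat.card K - 1 := by rw [hc]; omega
  have hcardG : (Nat.card ↥(Lie.twistedF4 K (2 ^ m))).factorization 3 = 2 * (2 ^ (2 * m + 1) + 1).factorization 3 + 1 := by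
    rw [S1068.result hK]
    exact fact_three hq2 h3
  obtain ⟨x, y, z, hx, hy, hzx, hzy, hxy, hz1⟩ := exists_three
  set f := ZMod.castHom (dvd_refl 2) K with hf
  have he : 0 < 2 ^ m := by positivity
  let j : ↥(Lie.twistedF4 (ZMod 2) 1) →* ↥(Lie.twistedF4 K (2 ^ m)) :=
    ((glF (ZMod 2) K f).comp (Lie.twistedF4 (ZMod 2) 1).subtype).codRestrict (Lie.twistedF4 K (2 ^ m))
      fun g => glF_mem K he g.2
  have hj : Function.Injective j := fun a b hab => Subtype.ext (glF_injective _ _ _ (congrArg Subtype.val hab))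
  have hne : S.XZ 1 ≠ S.XZ (1 + 8) := by
    intro h
    obtain ⟨x, hx, hx1⟩ := S.zsys8.exists_ne 1
    exact hx1 (S.X_inf_opp hx (h ▸ hx))
  refine H760.PairFull.fullP_of_pair (by norm_num) (S.XZ 1 ⊔ S.XZ (1 + 8)) (S.XZ (1 + 4) ⊔ S.XZ (1 + 4 + 8))
    (S.rot ^ (2 : ℤ)) (fun l hl m hm => comm_LM S hl hm) (fun l hl => rot_sup S hl)
    (fun P hP hPp => cyc S hF hR (by norm_num) hpq P hP hPp) (fun K hK h => noquot S hR (by norm_num) K hK h)
    (b := (2 ^ (2 * m + 1) + 1).factorization 3) ?_ ?_ hcardG j hj fullP_f42 hx hy hzx hzy hxy hz1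
  · exact Nat.Prime.factorization_pos_of_dvd Nat.prime_three (by omega) h3
  · have h1 := card_succ_dvd S.zsys8 hne
    have h2 := card_odd S 0
    rw [show (2 : ℤ) * 0 + 1 = 1 by ring] at h2
    rw [h2, hc] at h1
    exact (Nat.factorization_le_iff_dvd (by omega) Nat.card_pos.ne').2 h1 3

/-- **`²F₄(q)`, `q > 2`, at the prime 3.** -/
theorem fullP_twF4_three {G : Type*} [Group G] [Finite G] (h : Cfsg.Lie.Iso2F4 G) : FullP 3 G := by
  obtain ⟨K, _, _, m, hm, hK, ⟨e⟩⟩ := h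
  exact FullP.of_mulEquiv e.symm (fullP_twF4 K hm hK)

end Cfsg.Agent.H760.TwFFull
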