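import Cfsg.Agent.H760.StrGen
import Cfsg.Agent.H934.IdxPSU
import Cfsg.Agent.H667.TwoPSUModel
import Cfsg.Agent.S0277
import Cfsg.Agent.LieClassical.GUOrder
import Cfsg.Agent.ClassicalGeometry.PSUAutDelta
import Cfsg.Agent.ClassicalGeometry.PSUAutTorus
import Cfsg.Agent.ClassicalGeometry.PSUAutPhi
import Cfsg.Agent.ClassicalGeometry.PSUAutSemi
/-!
# The groups `PSU₃(q)`, `p ∣ q` odd (helper760, for S5305)

`genP_psu` : a strongly closed subgroup `T ≠ S` of a Sylow `p`-subgroup `S` of `PSU₃(q)` consists of nongenerators of `S`.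
-/
set_option autoImplicit false

namespace Cfsg.Agent.H760.StrU3

open Subgroup Cfsg Cfsg.Agent.H760.Str
open Cfsg.Agent.ClassicalGeometry.PSUAutBasic Cfsg.Agent.ClassicalGeometry.PSUAutSylow
  Cfsg.Agent.ClassicalGeometry.PSUAutPhi Cfsg.Agent.ClassicalGeometry.PSUAutSemi
  Cfsg.Agent.ClassicalGeometry.PSUAutTorus Cfsg.Agent.ClassicalGeometry.PSUAutDelta
  Cfsg.Agent.LieClassical.HermSiegel Cfsg.Agent.LieClassical.HermBasic Cfsg.Agent.LieClassical.HermGen

variable {F : Type*} [Field F] [Fintype F] {q p : ℕ} [hp : Fact p.Prime] [CharP F p]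

/-- the basis vector -/
abbrev zz (F : Type*) [Field F] : Fin 3 → F := Pi.single 0 1

/-! ### The field -/

omit hp [CharP F p] in
/-- A set closed under addition, negation and multiplication by the elements `a ^ q * (a ^ q * a⁻¹)` is closed under
multiplication by `F`. -/
theorem smul_mem_of (hF : Fintype.card F = q ^ 2) (hq : 2 < q) (M : AddSubgroup F)
    (hM : ∀ a : F, a ≠ 0 → ∀ x ∈ M, (a ^ q * (a ^ q * a⁻¹)) * x ∈ M) (r x : F) (hx : x ∈ M) : r * x ∈ M := by
  -- the fixed elements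
  have hfix : ∀ a : F, a ^ q = a → ∀ x ∈ M, a * x ∈ M := by
    intro a ha x hx
    by_cases h0 : a = 0
    · rw [h0, zero_mul]; exact M.zero_mem
    · have h1 := hM a h0 x hx
      rw [ha, mul_inv_cancel₀ h0, mul_one] at h1
      exact h1
  -- a multiplier which is not fixed
  obtain ⟨a, ha0, ha⟩ : ∃ a : F, a ≠ 0 ∧ (a ^ q * (a ^ q * a⁻¹)) ^ q ≠ a ^ q * (a ^ q * a⁻¹) := by
    by_contra hcon
    push Not at hcon
    obtain ⟨g, hg⟩ := IsCyclic.exists_generator (α := Fˣ)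
    have h1 := hcon (g : F) g.ne_zero
    have hg0 : (g : F) ≠ 0 := g.ne_zero
    have h2 : ((g : F) ^ q) ^ 3 = (g : F) ^ 3 := by
      rw [mul_pow, mul_pow, pow_q_pow_q hF, inv_pow] at h1
      have hgq : (g : F) ^ q ≠ 0 := pow_ne_zero _ hg0
      field_simp at h1
      linear_combination -h1
    have h3 : g ^ (3 * (q - 1)) = 1 := by
      apply Units.ext
      push_cast
      have h4 : (g : F) ^ (3 * (q - 1)) * (g : F) ^ 3 = 1 * (g : F) ^ 3 := by
        rw [← pow_add, one_mul, ← h2, ← pow_mul]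
        congr 1
        have : 1 ≤ q := by omega
        zify [this]
        ring
      exact mul_right_cancel₀ (pow_ne_zero 3 hg0) h4
    have h5 : Nat.card Fˣ ∣ 3 * (q - 1) := by
      rw [← orderOf_eq_card_of_forall_mem_zpowers hg]
      exact orderOf_dvd_of_pow_eq_one h3
    rw [card_units_eq hF] at h5
    have h6 : q + 1 ∣ 3 := Nat.dvd_of_mul_dvd_mul_right (by omega) h5
    have := Nat.le_of_dvd (by norm_num) h6
    omega
  set s := a ^ q * (a ^ q * a⁻¹) with hs
  have hss : s - s ^ q ≠ 0 := sub_ne_zero.2 (Ne.symm ha)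
  -- `r = α + β s`
  set β := (r - r ^ q) / (s - s ^ q) with hβ
  have hβq : β ^ q = β := by
    rw [hβ, div_pow, sub_pow_q hF, sub_pow_q hF, pow_q_pow_q hF, pow_q_pow_q hF]
    rw [← neg_sub r (r ^ q), ← neg_sub s (s ^ q), neg_div_neg_eq]
  have hβs : β * (s - s ^ q) = r - r ^ q := div_mul_cancel₀ _ hss
  have hα : (r - β * s) ^ q = r - β * s := by
    rw [sub_pow_q hF, mul_pow, hβq]
    linear_combination hβs
  have e : r * x = (r - β * s) * x + β * (s * x) := by ring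
  rw [e]
  exact M.add_mem (hfix _ hα x hx) (hfix _ hβq _ (hM a ha0 x hx))

/-! ### The subgroups of the Siegel group -/

variable {e f : Fin 3 → F}

omit hp [CharP F p] [Fintype F] in
theorem isSiegel_congr {w w' : Fin 3 → F} {μ : F} (hw : w = w') (h : IsSiegel q e w μ) : IsSiegel q e w' μ := hw ▸ h

/-- the first coordinates -/
def WW (hF : Fintype.card F = q ^ 2) (H : IsFrame q e f) (Y : Subgroup (PSU 3 F q)) : AddSubgroup F where
  carrier := {c | ∃ (μ : F) (h : IsSiegel q e (c • zz F) μ), pr 3 F q (siegel hF e (c • zz F) μ h) ∈ Y}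
  zero_mem' := by
    refine ⟨0, isSiegel_congr (zero_smul F _).symm (IsSiegel.zero hF H.ee), ?_⟩
    rw [siegel_congr hF _ (IsSiegel.zero hF H.ee) rfl (zero_smul F _) rfl, siegel_zero, map_one]
    exact Y.one_mem
  add_mem' := by
    rintro c c' ⟨μ, h, h1⟩ ⟨μ', h', h2⟩
    have h3 := Y.mul_mem h1 h2
    rw [← map_mul, siegel_mul hF h h'] at h3
    refine ⟨_, isSiegel_congr (add_smul c c' _).symm (h.mul hF h'), ?_⟩
    rw [siegel_congr hF _ (h.mul hF h') rfl (add_smul c c' _) rfl]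
    exact h3
  neg_mem' := by
    rintro c ⟨μ, h, h1⟩
    have h3 := Y.inv_mem h1
    rw [← map_inv, siegel_inv hF h] at h3
    refine ⟨_, isSiegel_congr (neg_smul c _).symm (h.inv hF), ?_⟩
    rw [siegel_congr hF _ (h.inv hF) rfl (neg_smul c _) rfl]
    exact h3

omit hp [CharP F p] in
theorem mem_WW {hF : Fintype.card F = q ^ 2} {H : IsFrame q e f} {Y : Subgroup (PSU 3 F q)} {c : F} :
    c ∈ WW hF H Y ↔ ∃ (μ : F) (h : IsSiegel q e (c • zz F) μ), pr 3 F q (siegel hF e (c • zz F) μ h) ∈ Y := Iff.rfl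

/-- the Sylow subgroup -/
def PP (hF : Fintype.card F = q ^ 2) (H : IsFrame q e f) : Subgroup (PSU 3 F q) := (siegG hF e H.ee).map (pr 3 F q)

omit hp [CharP F p] in
theorem mem_PP {hF : Fintype.card F = q ^ 2} {H : IsFrame q e f} {x : PSU 3 F q} :
    x ∈ PP hF H ↔ ∃ (c μ : F) (h : IsSiegel q e (c • zz F) μ), x = pr 3 F q (siegel hF e (c • zz F) μ h) := by
  constructor
  · rintro ⟨_, ⟨w, μ, h, rfl⟩, rfl⟩
    obtain ⟨w', hw', μ', h', e1⟩ := exists_normal hF H h
    have e2 : w' = (w' 0) • zz F := by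
      funext i
      have hi := mem_coordSub.1 hw'
      fin_cases i
      · simp
      · have := hi 1 (by norm_num)
        simp [this]
      · have := hi 2 (by norm_num)
        simp [this]
    refine ⟨w' 0, μ', isSiegel_congr e2 h', ?_⟩
    rw [e1, siegel_congr hF h' (isSiegel_congr e2 h') rfl e2 rfl]
  · rintro ⟨c, μ, h, rfl⟩
    exact ⟨_, ⟨_, _, h, rfl⟩, rfl⟩

omit [Fintype F] in
theorem two_ne (hp2 : p ≠ 2) : (2 : F) ≠ 0 := by
  intro h
  have h1 : ((2 : ℕ) : F) = 0 := by exact_mod_cast h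
  rw [CharP.cast_eq_zero_iff F p] at h1
  have h2 := (Nat.dvd_prime Nat.prime_two).1 h1
  rcases h2 with h2 | h2
  · exact hp.out.ne_one h2
  · exact hp2 h2

theorem PP_le (hp2 : p ≠ 2) (hF : Fintype.card F = q ^ 2) (H : IsFrame q e f) {Y : Subgroup (PSU 3 F q)}
    (hY : ∀ c, c ∈ WW hF H Y) : PP hF H ≤ Y := by
  have h2 : (2 : F) ≠ 0 := two_ne hp2
  have h2q : (2 : F) ^ q = 2 := by
    have : (2 : F) = 1 + 1 := by norm_num
    rw [this, add_pow_q hF, one_pow]
  -- the transvections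
  have htr : ∀ (ν : F) (hν : ν + ν ^ q = 0), pr 3 F q (transv hF e H.ee ν hν) ∈ Y := by
    intro ν hν
    obtain ⟨μ, h, h1⟩ := hY (ν / 2)
    obtain ⟨μ', h', h3⟩ := hY 1
    have h4 := Y.mul_mem (Y.mul_mem (Y.mul_mem h1 h3) (Y.inv_mem h1)) (Y.inv_mem h3)
    rw [← map_mul, ← map_inv, ← map_mul, ← map_inv, ← map_mul,
      H934.IdxPSU.siegel_comm hF h h' hν (by
        rw [herm_smul_left, herm_smul_right, herm_single_zero hF, herm_smul_left, herm_smul_right,
          herm_single_zero hF, one_pow, div_pow, h2q]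
        have h5 : ν ^ q = -ν := by linear_combination hν
        rw [h5]
        field_simp
        ring)] at h4
    exact h4
  intro x hx
  obtain ⟨c, μ, h, rfl⟩ := mem_PP.1 hx
  obtain ⟨μ1, h1, h3⟩ := hY c
  have hν : (μ - μ1) + (μ - μ1) ^ q = 0 := by
    rw [sub_pow_q hF]
    linear_combination h.tr - h1.tr
  have h4 := Y.mul_mem (htr _ hν) h3
  rw [← map_mul] at h4
  have e1 : transv hF e H.ee (μ - μ1) hν * siegel hF e (c • zz F) μ1 h1 = siegel hF e (c • zz F) μ h := by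
    unfold transv
    rw [siegel_mul hF _ h1]
    apply siegel_congr hF _ _ rfl
    · rw [zero_add]
    · rw [herm_zero_right hF]; ring
  rwa [e1] at h4

omit hp [CharP F p] in
theorem WW_eq (hF : Fintype.card F = q ^ 2) (hq : 2 < q) (H : IsFrame q e f) {T : Subgroup (PSU 3 F q)}
    (hT : IsStronglyClosed T (PP hF H)) {c0 : F} (h0 : c0 ≠ 0) (hc0 : c0 ∈ WW hF H T) (c : F) : c ∈ WW hF H T := by
  have hM : ∀ a : F, a ≠ 0 → ∀ x ∈ WW hF H T, (a ^ q * (a ^ q * a⁻¹)) * x ∈ WW hF H T := by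
    intro a ha x hx
    obtain ⟨μ, h, h1⟩ := mem_WW.1 hx
    obtain ⟨l, hle, -, hlz, -⟩ := exists_torus_unit hF H single_zero_mem (herm_single_zero hF) ha
    obtain ⟨h', e1⟩ := conj_siegel_stab hF hle ha h
    have h2 : pr 3 F q l * pr 3 F q (siegel hF e (x • zz F) μ h) * (pr 3 F q l)⁻¹ =
        pr 3 F q (siegel hF e (a ^ q • act l (x • zz F)) (a * a ^ q * μ) h') := by
      rw [← map_inv, ← map_mul, ← map_mul, e1]
    have h3 := hT.2 _ h1 (pr 3 F q l) (by rw [h2]; exact ⟨_, ⟨_, _, h', rfl⟩, rfl⟩)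
    rw [h2] at h3
    have ew : a ^ q • act l (x • zz F) = ((a ^ q * (a ^ q * a⁻¹)) * x) • zz F := by
      rw [act_smul, hlz, smul_smul, smul_smul]
      congr 1
      ring
    refine mem_WW.2 ⟨_, isSiegel_congr ew h', ?_⟩
    rw [siegel_congr hF _ h' rfl ew.symm rfl]
    exact h3
  have h4 := smul_mem_of hF hq (WW hF H T) hM (c / c0) c0 hc0
  rwa [div_mul_cancel₀ c h0] at h4

theorem gen_psu (hp2 : p ≠ 2) (hF : Fintype.card F = q ^ 2) (hq : 2 < q) (H : IsFrame q e f) {T : Subgroup (PSU 3 F q)}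
    (hT : IsStronglyClosed T (PP hF H)) (hne : T ≠ PP hF H) :
    ∀ X ≤ PP hF H, X ⊔ T = PP hF H → X = PP hF H := by
  have hfin : Finite (PSU 3 F q) := Quotient.finite _
  have hT0 : ∀ (c μ : F) (h : IsSiegel q e (c • zz F) μ), pr 3 F q (siegel hF e (c • zz F) μ h) ∈ T → c = 0 := by
    intro c μ h h1
    by_contra h0
    have h2 : c ∈ WW hF H T := mem_WW.2 ⟨μ, h, h1⟩
    have h3 : ∀ d, d ∈ WW hF H T := fun d => WW_eq hF hq H hT h0 h2 d
    exact hne (le_antisymm hT.1 (PP_le hp2 hF H h3))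
  intro X hX hXT
  refine le_antisymm hX (PP_le hp2 hF H fun c => ?_)
  have hle : X ≤ normalizer (T : Set (PSU 3 F q)) := fun x hx =>
    Transfer.FusionBasic.mem_normalizer_of_conj_mem fun y hy =>
      hT.2 y hy x (mul_mem (mul_mem (hX hx) (hT.1 hy)) (inv_mem (hX hx)))
  have hcz : ∀ c : F, c • zz F ∈ coordSub F 3 (3 - 2) := fun c => Submodule.smul_mem _ c single_zero_mem
  obtain ⟨μ, h⟩ := exists_isSiegel hF H (hcz c)
  have h3 : pr 3 F q (siegel hF e (c • zz F) μ h) ∈ ((X ⊔ T : Subgroup (PSU 3 F q)) : Set (PSU 3 F q)) := by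
    rw [hXT]; exact mem_PP.2 ⟨c, μ, h, rfl⟩
  rw [Subgroup.coe_mul_of_left_le_normalizer_right X T hle] at h3
  obtain ⟨x, hx, y, hy, e1⟩ := h3
  obtain ⟨a, μa, ha, rfl⟩ := mem_PP.1 (hX hx)
  obtain ⟨b, μb, hb, rfl⟩ := mem_PP.1 (hT.1 hy)
  have hb0 : b = 0 := hT0 _ _ _ hy
  have e2 : pr 3 F q (siegel hF e (a • zz F) μa ha) * pr 3 F q (siegel hF e (b • zz F) μb hb) =
      pr 3 F q (siegel hF e (c • zz F) μ h) := e1
  rw [← map_mul, siegel_mul hF ha hb] at e2
  have e3 := (pr_siegel_inj hF le_rfl H (add_mem (hcz a) (hcz b)) (hcz c) (ha.mul hF hb) h e2).1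
  have e4 : a = c := by
    have := congrFun e3 0
    simp [hb0] at this
    exact this
  rw [← e4]
  exact mem_WW.2 ⟨μa, ha, hx⟩

theorem genP_psu (hp2 : p ≠ 2) (hF : Fintype.card F = q ^ 2) : GenP p (PSU 3 F q) := by
  have hfin : Finite (PSU 3 F q) := Quotient.finite _
  have hq2 := two_le hF
  have hpq : p ∣ q := prime_dvd_q p hF
  have hq : 2 < q := by
    rcases Nat.lt_or_ge 2 q with h | h
    · exact h
    · exfalso
      have : q = 2 := by omega
      rw [this] at hpq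
      exact hp2 ((Nat.prime_dvd_prime_iff_eq hp.out Nat.prime_two).1 hpq)
  obtain ⟨e, f, H⟩ := exists_frame (n := 3) hF (by omega)
  -- the order of `SU₃(q)`
  have hcard : Nat.card (SU 3 F q) = q ^ 3 * ((q ^ 2 - 1) * (q ^ 3 + 1)) := by
    have h1 := Cfsg.Agent.LieClassical.GUOrder.card_GU_eq hF (n := 3) (by norm_num)
    rw [Cfsg.Agent.S0277.result hF 3, Finset.prod_range_succ, Finset.prod_range_succ, Finset.prod_range_one,
      if_pos (by decide), if_neg (by decide), if_pos (by decide)] at h1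
    have h2 : (q + 1) * (q ^ 3 * ((q ^ 2 - 1) * (q ^ 3 + 1))) = (q + 1) * Nat.card (SU 3 F q) := by
      rw [← h1]; norm_num; ring
    exact (Nat.eq_of_mul_eq_mul_left (Nat.succ_pos q) h2).symm
  have hcU : Nat.card (siegG hF e H.ee) = q ^ 3 := by
    have h1 := Cfsg.Agent.H934.IdxPSU.card_siegG hF H
    have h2 := Cfsg.Agent.H667.TwoPSUModel.card_siegG_le hF H
    have h3 : (q ^ 2) ^ (3 - 2) * q = q ^ 3 := by norm_num; ring
    omega
  have hidx : ¬ p ∣ (siegG hF e H.ee).index := by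
    have h1 := (siegG hF e H.ee).card_mul_index
    rw [hcU, hcard] at h1
    have h2 : (siegG hF e H.ee).index = (q ^ 2 - 1) * (q ^ 3 + 1) := Nat.eq_of_mul_eq_mul_left (by positivity) h1
    rw [h2, hp.out.dvd_mul]
    have h3 : p ∣ q ^ 2 := dvd_pow hpq (by norm_num)
    have h4 : p ∣ q ^ 3 := dvd_pow hpq (by norm_num)
    have h5 : 1 ≤ q ^ 2 := Nat.one_le_pow _ _ (by omega)
    have hp1 := hp.out.one_lt
    rintro (h | h)
    · have h6 : p ∣ q ^ 2 - (q ^ 2 - 1) := Nat.dvd_sub h3 h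
      have h7 : q ^ 2 - (q ^ 2 - 1) = 1 := by omega
      rw [h7, Nat.dvd_one] at h6
      omega
    · have h6 := (Nat.dvd_add_right h4).1 h
      rw [Nat.dvd_one] at h6
      omega
  have hS := (isPGroup_siegG hF p H.ee).toSylow hidx
  let S0 : Sylow p (SU 3 F q) := (isPGroup_siegG hF p H.ee).toSylow hidx
  let S : Sylow p (PSU 3 F q) := S0.mapSurjective (f := pr 3 F q) pr_surjective
  have hS' : (S : Subgroup (PSU 3 F q)) = PP hF H := rfl
  exact GenP.of_one S fun T hT hne => by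
    rw [hS'] at hT hne ⊢
    exact gen_psu hp2 hF hq H hT hne

end Cfsg.Agent.H760.StrU3
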