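import Cfsg.Agent.H42.Tw.Pair
import Cfsg.Agent.H42.Tw.F4Three
import Cfsg.Agent.H792.SpTool
/-!
# `FullP p G` from a homocyclic torus of rank two and a subgroup with `FullP` (helper760, S5116)

`fullP_of_torus` : `lam`, `mu = s lam s⁻¹` commuting elements of order `p ^ a` generating a direct product of order
`p ^ (2 a)`, `|G|_p = p ^ (2 a + 1)`, some `c` acts nontrivially modulo `p` on `⟨lam⟩` and centralizes `mu`, and `G`
contains a subgroup with `FullP p` containing two elements of order `p` whose commutator is central `≠ 1`: `FullP p G`.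
-/
set_option autoImplicit false

namespace Cfsg.Agent.H760.PairFull

open Subgroup Cfsg Cfsg.Agent.H749 Cfsg.Agent.H792.SpTool

variable {p : ℕ} [hp : Fact p.Prime] {G : Type*} [Group G] [Finite G]

/-- the torus data -/
structure Tor (p a : ℕ) (lam mu s c c' : G) (r : ℤ) : Prop where
  comm : lam * mu = mu * lam
  ord : orderOf lam = p ^ a
  inf : ∀ i j : ℤ, lam ^ i * mu ^ j = 1 → lam ^ i = 1
  swap : s * lam * s⁻¹ = mu
  act : c * lam * c⁻¹ = lam ^ r
  act1 : c * mu * c⁻¹ = mu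
  act' : c' * mu * c'⁻¹ = mu ^ r
  act1' : c' * lam * c'⁻¹ = lam
  ndvd : ¬ (p : ℤ) ∣ r - 1
  apos : 1 ≤ a

variable {a : ℕ} {lam mu s c c' : G} {r : ℤ}

namespace Tor

variable (h : Tor p a lam mu s c c' r)
include h

omit hp [Finite G] in
theorem commute (i j : ℤ) : lam ^ i * mu ^ j = mu ^ j * lam ^ i :=
  ((show Commute lam mu from h.comm).zpow_left i).zpow_right j

omit hp [Finite G] in
theorem mu_zpow (i : ℤ) : mu ^ i = s * lam ^ i * s⁻¹ := by rw [← h.swap, conj_zpow]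

omit hp [Finite G] in
theorem ord_mu : orderOf mu = p ^ a := by
  rw [← h.ord, ← h.swap]
  exact orderOf_injective (MulAut.conj s).toMonoidHom (MulAut.conj s).injective lam

omit hp [Finite G] in
theorem lam_pow_eq_one {i : ℤ} : lam ^ i = 1 ↔ ((p : ℤ) ^ a) ∣ i := by
  rw [← orderOf_dvd_iff_zpow_eq_one, h.ord]
  push_cast
  rfl

omit hp [Finite G] in
theorem mu_pow_eq_one {i : ℤ} : mu ^ i = 1 ↔ ((p : ℤ) ^ a) ∣ i := by
  rw [← orderOf_dvd_iff_zpow_eq_one, h.ord_mu]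
  push_cast
  rfl

omit hp [Finite G] in
theorem mul_eq (i j k l : ℤ) : lam ^ i * mu ^ j * (lam ^ k * mu ^ l) = lam ^ (i + k) * mu ^ (j + l) := by
  rw [zpow_add, zpow_add]
  calc lam ^ i * mu ^ j * (lam ^ k * mu ^ l) = lam ^ i * (mu ^ j * lam ^ k) * mu ^ l := by group
    _ = lam ^ i * (lam ^ k * mu ^ j) * mu ^ l := by rw [h.commute]
    _ = _ := by group

omit hp [Finite G] in
theorem inv_eq (i j : ℤ) : (lam ^ i * mu ^ j)⁻¹ = lam ^ (-i) * mu ^ (-j) := by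
  rw [mul_inv_rev, ← zpow_neg, ← zpow_neg, h.commute]

/-- the torus -/
def D : Subgroup G where
  carrier := {g | ∃ i j : ℤ, g = lam ^ i * mu ^ j}
  one_mem' := ⟨0, 0, by simp⟩
  mul_mem' := by
    rintro _ _ ⟨i, j, rfl⟩ ⟨k, l, rfl⟩
    exact ⟨i + k, j + l, h.mul_eq i j k l⟩
  inv_mem' := by
    rintro _ ⟨i, j, rfl⟩
    exact ⟨-i, -j, h.inv_eq i j⟩

omit hp [Finite G] in
theorem mem_D {g : G} : g ∈ h.D ↔ ∃ i j : ℤ, g = lam ^ i * mu ^ j := Iff.rfl

omit hp [Finite G] in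
theorem D_comm {x y : G} (hx : x ∈ h.D) (hy : y ∈ h.D) : x * y = y * x := by
  obtain ⟨i, j, rfl⟩ := hx
  obtain ⟨k, l, rfl⟩ := hy
  rw [h.mul_eq, h.mul_eq, add_comm i k, add_comm j l]

omit hp [Finite G] in
theorem card_D : Nat.card h.D = p ^ (2 * a) := by
  have h1 : Nat.card h.D = Nat.card (zpowers lam) * Nat.card (zpowers mu) := by
    rw [← Nat.card_prod]
    symm
    refine Nat.card_eq_of_bijective (fun x : zpowers lam × zpowers mu => (⟨x.1 * x.2, ?_⟩ : h.D)) ⟨?_, ?_⟩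
    · obtain ⟨⟨x, hx⟩, ⟨y, hy⟩⟩ := x
      obtain ⟨i, rfl⟩ := mem_zpowers_iff.1 hx
      obtain ⟨j, rfl⟩ := mem_zpowers_iff.1 hy
      exact ⟨i, j, rfl⟩
    · rintro ⟨⟨x, hx⟩, ⟨y, hy⟩⟩ ⟨⟨x', hx'⟩, ⟨y', hy'⟩⟩ he
      obtain ⟨i, rfl⟩ := mem_zpowers_iff.1 hx
      obtain ⟨j, rfl⟩ := mem_zpowers_iff.1 hy
      obtain ⟨k, rfl⟩ := mem_zpowers_iff.1 hx'
      obtain ⟨l, rfl⟩ := mem_zpowers_iff.1 hy'
      have h1 : lam ^ i * mu ^ j = lam ^ k * mu ^ l := congrArg Subtype.val he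
      have h2 : lam ^ (i - k) * mu ^ (j - l) = 1 := by
        have h3 := h.mul_eq i j (-k) (-l)
        rw [← h.inv_eq k l, h1, mul_inv_cancel] at h3
        rw [sub_eq_add_neg, sub_eq_add_neg, ← h3]
      have h3 := h.inf _ _ h2
      have h4 : mu ^ (j - l) = 1 := by rwa [h3, one_mul] at h2
      have h5 : lam ^ i = lam ^ k := by rw [zpow_sub, mul_inv_eq_one] at h3; exact h3
      have h6 : mu ^ j = mu ^ l := by rw [zpow_sub, mul_inv_eq_one] at h4; exact h4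
      simp only [Prod.mk.injEq, Subtype.mk.injEq]
      exact ⟨h5, h6⟩
    · rintro ⟨g, i, j, rfl⟩
      exact ⟨(⟨lam ^ i, ⟨i, rfl⟩⟩, ⟨mu ^ j, ⟨j, rfl⟩⟩), rfl⟩
  rw [h1, Nat.card_zpowers, Nat.card_zpowers, h.ord, h.ord_mu, ← pow_add, two_mul]

omit hp [Finite G] in
theorem isPGroup_D : IsPGroup p h.D := IsPGroup.of_card h.card_D

omit hp [Finite G] in
theorem pel_lam (i : ℤ) : PEl p (lam ^ i) := by
  refine PEl.zpow ⟨a, ?_⟩ i
  rw [← h.ord, pow_orderOf_eq_one]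

variable {P : G → Prop} (hP : PCl p P)
include hP

omit hp [Finite G] in
theorem P_mu_iff {i : ℤ} : P (mu ^ i) ↔ P (lam ^ i) := by
  rw [h.mu_zpow, hP.conj_iff]

omit hp [Finite G] in
/-- coprime multiples -/
theorem P_of_coprime {i m : ℤ} (hm : IsCoprime m (p : ℤ)) (hi : P (lam ^ (m * i))) : P (lam ^ i) := by
  have h1 : IsCoprime m ((p : ℤ) ^ a) := hm.pow_right
  obtain ⟨u, v, huv⟩ := h1
  have h2 : lam ^ i = (lam ^ (m * i)) ^ u := by
    rw [← zpow_mul]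
    have h3 : i = m * i * u + (p : ℤ) ^ a * (v * i) := by linear_combination (-i) * huv
    conv_lhs => rw [h3]
    rw [zpow_add, h.lam_pow_eq_one.2 (dvd_mul_right _ _), mul_one]
  rw [h2]
  exact hP.zpow (h.pel_lam _) hi u

omit [Finite G] in
theorem split {i j : ℤ} (hij : P (lam ^ i * mu ^ j)) : P (lam ^ i) ∧ P (mu ^ j) := by
  have hmem : ∀ i j : ℤ, lam ^ i * mu ^ j ∈ h.D := fun i j => ⟨i, j, rfl⟩
  have h1 : c * (lam ^ i * mu ^ j) * c⁻¹ = lam ^ (r * i) * mu ^ j := by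
    calc c * (lam ^ i * mu ^ j) * c⁻¹ = (c * lam ^ i * c⁻¹) * (c * mu ^ j * c⁻¹) := by group
      _ = _ := by rw [← conj_zpow, ← conj_zpow, h.act, h.act1, ← zpow_mul]
  have h2 : P (lam ^ (r * i) * mu ^ j) := by rw [← h1]; exact hP.conj c hij
  have h3 : P (lam ^ ((r - 1) * i)) := by
    have h4 := hP.mul h.isPGroup_D (hmem _ _) (h.D.inv_mem (hmem i j)) h2 (hP.inv hij)
    rw [h.inv_eq, h.mul_eq, add_neg_cancel, zpow_zero, mul_one] at h4
    rwa [show (r - 1) * i = r * i + -i by ring]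
  have h4 : P (lam ^ i) := h.P_of_coprime hP
    ((Nat.prime_iff_prime_int.1 hp.out).coprime_iff_not_dvd.2 h.ndvd).symm h3
  refine ⟨h4, ?_⟩
  have h5 := hP.mul h.isPGroup_D (h.D.inv_mem (show lam ^ i ∈ h.D from ⟨i, 0, by simp⟩)) (hmem i j) (hP.inv h4) hij
  rwa [inv_mul_cancel_left] at h5

omit [Finite G] in
/-- all or multiples of `p` -/
theorem dvd_of_P (hl : ¬ P lam) {i : ℤ} (hi : P (lam ^ i)) : (p : ℤ) ∣ i := by
  by_contra hd
  apply hl
  have h1 : IsCoprime i (p : ℤ) := ((Nat.prime_iff_prime_int.1 hp.out).coprime_iff_not_dvd.2 hd).symm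
  have h2 := h.P_of_coprime hP (i := 1) (m := i) h1 (by rwa [mul_one])
  rwa [zpow_one] at h2

omit [Finite G] in
/-- elements of order `p` of the torus -/
theorem P_omega {d : G} (hd : d ∈ h.D) (hd1 : d ≠ 1) (hPd : P d) {v : G} (hv : v ∈ h.D) (hvp : v ^ p = 1) : P v := by
  -- `lam ^ (p ^ (a - 1))` is in `P`
  have h0 : ∃ i : ℤ, P (lam ^ i) ∧ ¬ (p : ℤ) ^ a ∣ i := by
    obtain ⟨i, j, rfl⟩ := hd
    obtain ⟨h1, h2⟩ := h.split hP hPd
    by_cases hi : (p : ℤ) ^ a ∣ i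
    · refine ⟨j, (h.P_mu_iff hP).1 h2, fun hj => hd1 ?_⟩
      rw [h.lam_pow_eq_one.2 hi, h.mu_pow_eq_one.2 hj, one_mul]
    · exact ⟨i, h1, hi⟩
  obtain ⟨i, hPi, hi⟩ := h0
  have hi0 : i ≠ 0 := by
    rintro rfl
    exact hi (dvd_zero _)
  have h1 : P (lam ^ ((p : ℤ) ^ (a - 1))) := by
    -- write `i = p ^ b * m`
    obtain ⟨m, hbm, hm⟩ := FiniteMultiplicity.exists_eq_pow_mul_and_not_dvd (Int.finiteMultiplicity_iff.2
      ⟨by simpa using hp.out.ne_one, hi0⟩ : FiniteMultiplicity (p : ℤ) i)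
    obtain ⟨b, hb0⟩ : ∃ b, b = multiplicity (p : ℤ) i := ⟨_, rfl⟩
    rw [← hb0] at hbm
    have hb : b < a := by
      by_contra hba
      exact hi (by rw [hbm]; exact (pow_dvd_pow _ (not_lt.1 hba)).mul_right m)
    have h2 : IsCoprime m (p : ℤ) := ((Nat.prime_iff_prime_int.1 hp.out).coprime_iff_not_dvd.2 hm).symm
    have h3 : P (lam ^ ((p : ℤ) ^ b)) := h.P_of_coprime hP h2 (by rw [mul_comm, ← hbm]; exact hPi)
    have h4 := hP.zpow (h.pel_lam _) h3 ((p : ℤ) ^ (a - 1 - b))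
    rwa [← zpow_mul, ← pow_add, show b + (a - 1 - b) = a - 1 by omega] at h4
  obtain ⟨i, j, rfl⟩ := hv
  rw [← zpow_natCast, (show Commute (lam ^ i) (mu ^ j) from h.commute i j).mul_zpow, ← zpow_mul, ← zpow_mul] at hvp
  have h2 := h.inf _ _ hvp
  have h3 : mu ^ (j * (p : ℤ)) = 1 := by rwa [h2, one_mul] at hvp
  rw [h.lam_pow_eq_one] at h2
  rw [h.mu_pow_eq_one] at h3
  have hp0 : (p : ℤ) ≠ 0 := by exact_mod_cast hp.out.ne_zero
  have e : (p : ℤ) ^ a = (p : ℤ) ^ (a - 1) * p := by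
    rw [← pow_succ, Nat.sub_add_cancel h.apos]
  have h4 : (p : ℤ) ^ (a - 1) ∣ i := by
    rw [e] at h2
    exact Int.dvd_of_mul_dvd_mul_right hp0 h2
  have h5 : (p : ℤ) ^ (a - 1) ∣ j := by
    rw [e] at h3
    exact Int.dvd_of_mul_dvd_mul_right hp0 h3
  obtain ⟨i', rfl⟩ := h4
  obtain ⟨j', rfl⟩ := h5
  refine hP.mul h.isPGroup_D (x := lam ^ ((p : ℤ) ^ (a - 1) * i')) (y := mu ^ ((p : ℤ) ^ (a - 1) * j'))
    ⟨(p : ℤ) ^ (a - 1) * i', 0, by rw [zpow_zero, mul_one]⟩ ⟨0, (p : ℤ) ^ (a - 1) * j', by rw [zpow_zero, one_mul]⟩ ?_ ?_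
  · rw [zpow_mul]
    exact hP.zpow (h.pel_lam _) h1 i'
  · rw [h.P_mu_iff hP, zpow_mul]
    exact hP.zpow (h.pel_lam _) h1 j'

omit [Finite G] in
/-- an element of `P` normalizing the torus and acting nontrivially on the elements of order `p` -/
theorem P_lam {u v : G} (huD : ∀ t ∈ h.D, u * t * u⁻¹ ∈ h.D) (huP : ∀ t ∈ h.D, P (u * t * u⁻¹ * t⁻¹))
    (hv : v ∈ h.D) (hvp : v ^ p = 1) (huv : u * v ≠ v * u) : P lam := by
  by_contra hl
  have hp0 : (p : ℤ) ≠ 0 := by exact_mod_cast hp.out.ne_zero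
  have e : (p : ℤ) ^ a = (p : ℤ) ^ (a - 1) * p := by
    rw [← pow_succ, Nat.sub_add_cancel h.apos]
  -- `[u, t]` is a `p`-th power
  have key : ∀ t ∈ h.D, ∃ w ∈ h.D, u * t * u⁻¹ = w ^ (p : ℤ) * t := by
    intro t ht
    obtain ⟨i, j, hij⟩ := h.D.mul_mem (huD t ht) (h.D.inv_mem ht)
    have h1 := huP t ht
    rw [hij] at h1
    obtain ⟨h2, h3⟩ := h.split hP h1
    obtain ⟨i', rfl⟩ := h.dvd_of_P hP hl h2
    obtain ⟨j', rfl⟩ := h.dvd_of_P hP hl ((h.P_mu_iff hP).1 h3)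
    refine ⟨lam ^ i' * mu ^ j', ⟨i', j', rfl⟩, ?_⟩
    rw [(show Commute (lam ^ i') (mu ^ j') from h.commute i' j').mul_zpow, ← zpow_mul, ← zpow_mul, mul_comm i',
      mul_comm j', ← hij]
    group
  have hfix : ∀ t ∈ h.D, u * t ^ ((p : ℤ) ^ (a - 1)) * u⁻¹ = t ^ ((p : ℤ) ^ (a - 1)) := by
    intro t ht
    obtain ⟨w, hw, hwt⟩ := key t ht
    rw [← conj_zpow, hwt]
    have hc : Commute (w ^ (p : ℤ)) t := h.D_comm (h.D.zpow_mem hw _) ht
    rw [hc.mul_zpow, ← zpow_mul, show (p : ℤ) * (p : ℤ) ^ (a - 1) = (p : ℤ) ^ a by rw [e, mul_comm]]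
    obtain ⟨i, j, rfl⟩ := hw
    rw [(show Commute (lam ^ i) (mu ^ j) from h.commute i j).mul_zpow, ← zpow_mul, ← zpow_mul,
      h.lam_pow_eq_one.2 (dvd_mul_left _ _), h.mu_pow_eq_one.2 (dvd_mul_left _ _), one_mul, one_mul]
  obtain ⟨i, j, rfl⟩ := hv
  rw [← zpow_natCast, (show Commute (lam ^ i) (mu ^ j) from h.commute i j).mul_zpow, ← zpow_mul, ← zpow_mul] at hvp
  have h2 := h.inf _ _ hvp
  have h3 : mu ^ (j * (p : ℤ)) = 1 := by rwa [h2, one_mul] at hvp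
  rw [h.lam_pow_eq_one] at h2
  rw [h.mu_pow_eq_one] at h3
  have h4 : (p : ℤ) ^ (a - 1) ∣ i := by
    rw [e] at h2
    exact Int.dvd_of_mul_dvd_mul_right hp0 h2
  have h5 : (p : ℤ) ^ (a - 1) ∣ j := by
    rw [e] at h3
    exact Int.dvd_of_mul_dvd_mul_right hp0 h3
  obtain ⟨i', rfl⟩ := h4
  obtain ⟨j', rfl⟩ := h5
  apply huv
  have h6 := hfix (lam ^ i' * mu ^ j') ⟨i', j', rfl⟩
  rw [(show Commute (lam ^ i') (mu ^ j') from h.commute i' j').mul_zpow, ← zpow_mul, ← zpow_mul, mul_comm i',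
    mul_comm j'] at h6
  exact mul_inv_eq_iff_eq_mul.1 h6

end Tor

omit hp [Finite G] in
theorem exists_nat_pow {x : G} (hp0 : p ≠ 0) (hx : x ^ p = 1) (k : ℤ) : ∃ m : ℕ, x ^ k = x ^ m := by
  have hp0 : (p : ℤ) ≠ 0 := by exact_mod_cast hp0
  refine ⟨(k % (p : ℤ)).toNat, ?_⟩
  have h1 : (((k % (p : ℤ)).toNat : ℕ) : ℤ) = k % p := Int.toNat_of_nonneg (Int.emod_nonneg _ hp0)
  rw [← zpow_natCast, h1]
  conv_lhs => rw [← Int.emod_add_mul_ediv k p]
  rw [zpow_add, zpow_mul, zpow_natCast, hx, one_zpow, mul_one]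

omit hp [Finite G] in
theorem pow_mul_comm {A B C : G} (h : A * B = C * (B * A)) (hCA : Commute C A) (m : ℕ) :
    A ^ m * B = C ^ m * (B * A ^ m) := by
  induction m with
  | zero => simp
  | succ n ih =>
    have e1 : A * C ^ n = C ^ n * A := (hCA.pow_left n).symm
    calc A ^ (n + 1) * B = A * (A ^ n * B) := by rw [pow_succ', mul_assoc]
      _ = (A * C ^ n) * (B * A ^ n) := by rw [ih, mul_assoc]
      _ = C ^ n * (A * B) * A ^ n := by rw [e1]; simp only [mul_assoc]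
      _ = C ^ n * (C * (B * A)) * A ^ n := by rw [← h]
      _ = C ^ (n + 1) * (B * A ^ (n + 1)) := by
        rw [pow_succ, pow_succ']; simp only [mul_assoc]

omit hp [Finite G] in
/-- powers of a product in a group of class two -/
theorem heis_pow {A B C : G} (h : A * B = C * (B * A)) (hCA : Commute C A) (hCB : Commute C B) (n : ℕ) :
    (A * B) ^ n * C ^ (∑ i ∈ Finset.range n, i) = A ^ n * B ^ n := by
  have h' : B * A = C⁻¹ * (A * B) := by rw [h]; group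
  have hBA : ∀ n : ℕ, B ^ n * A = (C⁻¹) ^ n * (A * B ^ n) := fun n => pow_mul_comm h' hCB.inv_left n
  induction n with
  | zero => simp
  | succ n ih =>
    rw [Finset.sum_range_succ]
    have hc1 : Commute (C ^ (∑ i ∈ Finset.range n, i)) (A * B) := (hCA.mul_right hCB).pow_left _
    have hc2 : Commute (C ^ n) A := hCA.pow_left n
    have hc3 : Commute (C ^ n) B := hCB.pow_left n
    calc (A * B) ^ (n + 1) * C ^ (∑ i ∈ Finset.range n, i + n)
        = (A * B) ^ n * ((A * B) * C ^ (∑ i ∈ Finset.range n, i)) * C ^ n := by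
          rw [pow_succ, pow_add]; simp only [mul_assoc]
      _ = (A * B) ^ n * (C ^ (∑ i ∈ Finset.range n, i) * (A * B)) * C ^ n := by rw [hc1.eq]
      _ = ((A * B) ^ n * C ^ (∑ i ∈ Finset.range n, i)) * (A * B) * C ^ n := by simp only [mul_assoc]
      _ = A ^ n * (B ^ n * A) * B * C ^ n := by rw [ih]; simp only [mul_assoc]
      _ = A ^ n * ((C⁻¹) ^ n * (A * B ^ n)) * B * C ^ n := by rw [hBA]
      _ = A ^ n * ((C⁻¹) ^ n * (A * (B ^ n * (B * C ^ n)))) := by simp only [mul_assoc]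
      _ = A ^ n * ((C⁻¹) ^ n * (C ^ n * (A * (B ^ n * B)))) := by
          rw [← hc3.eq, ← mul_assoc (B ^ n) (C ^ n) B, ← (hCB.pow_left n).pow_right n |>.eq, mul_assoc (C ^ n),
            ← mul_assoc A (C ^ n), ← hc2.eq, mul_assoc (C ^ n)]
      _ = A ^ (n + 1) * B ^ (n + 1) := by
          rw [inv_pow, inv_mul_cancel_left, pow_succ, pow_succ]; simp only [mul_assoc]

omit [Finite G] in
theorem heis_pow_eq_one (hp2 : p ≠ 2) {A B C : G} (h : A * B = C * (B * A)) (hCA : Commute C A) (hCB : Commute C B)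
    (hA : A ^ p = 1) (hB : B ^ p = 1) (hC : C ^ p = 1) : (A * B) ^ p = 1 := by
  have h1 := heis_pow h hCA hCB p
  have h2 : C ^ (∑ i ∈ Finset.range p, i) = 1 := by
    rw [Finset.sum_range_id]
    have hodd : Odd p := hp.out.odd_of_ne_two hp2
    obtain ⟨k, hk⟩ := hodd
    have e : p * (p - 1) / 2 = p * k := by
      rw [hk]
      have : (2 * k + 1) * (2 * k + 1 - 1) = 2 * ((2 * k + 1) * k) := by
        rw [Nat.add_sub_cancel]; ring
      rw [this, Nat.mul_div_cancel_left _ (by norm_num)]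
    rw [e, pow_mul, hC, one_pow]
  rwa [h2, mul_one, hA, hB, one_mul] at h1

/-- **`FullP` from a homocyclic torus.** -/
theorem fullP_of_torus (hp2 : p ≠ 2) (h : Tor p a lam mu s c c' r) (hG : (Nat.card G).factorization p = 2 * a + 1)
    {H : Type*} [Group H] (j : H →* G) (hj : Function.Injective j) (hH : FullP p H) {x y z : H} (hx : x ^ p = 1)
    (hy : y ^ p = 1) (hzx : z * x = x * z) (hzy : z * y = y * z) (hxy : x * y = z * (y * x)) (hz1 : z ≠ 1) :
    FullP p G := by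
  rintro P hP ⟨x0, hx0, hx01, hPx0⟩
  obtain ⟨S, hDS⟩ := h.isPGroup_D.exists_le_sylow
  have hcS : Nat.card (S : Subgroup G) = p ^ (2 * a + 1) := by rw [← hG]; exact S.card_eq_multiplicity
  -- `D` has index `p` in `S`
  have hidx : (h.D.subgroupOf (S : Subgroup G)).index = p := by
    have h1 := (h.D.subgroupOf (S : Subgroup G)).card_mul_index
    rw [Nat.card_congr (subgroupOfEquivOfLe hDS).toEquiv, h.card_D, hcS, pow_succ] at h1
    exact Nat.eq_of_mul_eq_mul_left (pow_pos hp.out.pos _) h1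
  have hnorm : (h.D.subgroupOf (S : Subgroup G)).Normal := by
    apply normal_of_index_eq_minFac_card
    rw [hidx, hcS, hp.out.pow_minFac (by omega)]
  have hSD : ∀ w ∈ (S : Subgroup G), ∀ t ∈ h.D, w * t * w⁻¹ ∈ h.D := by
    intro w hw t ht
    exact hnorm.conj_mem ⟨t, hDS ht⟩ ht ⟨w, hw⟩
  have hgen : ∀ w ∈ (S : Subgroup G), w ∉ h.D → ∀ v ∈ (S : Subgroup G), ∃ (k : ℤ) (t : G), t ∈ h.D ∧ v = w ^ k * t := by
    intro w hw hwD v hv
    have hle : h.D.subgroupOf (S : Subgroup G) ≤ (h.D ⊔ zpowers w).subgroupOf (S : Subgroup G) :=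
      fun x hx => (mem_sup_left hx : _ ∈ h.D ⊔ zpowers w)
    have h1 : ((h.D ⊔ zpowers w).subgroupOf (S : Subgroup G)).index ∣ p := by
      have := index_dvd_of_le hle
      rwa [hidx] at this
    have h2 : ((h.D ⊔ zpowers w).subgroupOf (S : Subgroup G)) = ⊤ := by
      rcases (Nat.dvd_prime hp.out).1 h1 with h2 | h2
      · exact index_eq_one.1 h2
      · exfalso
        apply hwD
        have h3 : h.D.subgroupOf (S : Subgroup G) = (h.D ⊔ zpowers w).subgroupOf (S : Subgroup G) := by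
          refine Subgroup.eq_of_le_of_card_ge hle ?_
          have h4 := (h.D.subgroupOf (S : Subgroup G)).card_mul_index
          have h5 := ((h.D ⊔ zpowers w).subgroupOf (S : Subgroup G)).card_mul_index
          rw [hidx] at h4
          rw [h2, ← h4] at h5
          exact (Nat.eq_of_mul_eq_mul_right hp.out.pos h5).le
        have h4 : (⟨w, hw⟩ : (S : Subgroup G)) ∈ (h.D ⊔ zpowers w).subgroupOf (S : Subgroup G) :=
          (mem_sup_right (mem_zpowers w) : w ∈ h.D ⊔ zpowers w)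
        rw [← h3] at h4
        exact h4
    have h3 : v ∈ zpowers w ⊔ h.D := by
      have : (⟨v, hv⟩ : (S : Subgroup G)) ∈ (h.D ⊔ zpowers w).subgroupOf (S : Subgroup G) := by rw [h2]; trivial
      rw [sup_comm]
      exact this
    have h4 : v ∈ ((zpowers w ⊔ h.D : Subgroup G) : Set G) := h3
    rw [Subgroup.coe_mul_of_left_le_normalizer_right] at h4
    · obtain ⟨b, hb, t, ht, rfl⟩ := h4
      obtain ⟨k, rfl⟩ := mem_zpowers_iff.1 hb
      exact ⟨k, t, ht, rfl⟩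
    · intro b hb
      have hbS : b ∈ (S : Subgroup G) := (zpowers_le.2 hw) hb
      refine Transfer.FusionBasic.mem_normalizer_of_conj_mem fun t ht => hSD b hbS t ht
  -- `x`, `y` inside `S`
  obtain ⟨Q, hQ, hxQ, hyQ⟩ := H42.Tw.exists_pgroup (p := p) (x := j x) (y := j y) (z := j z)
    (by rw [← map_pow, hx, map_one]) (by rw [← map_pow, hy, map_one]) (by rw [← map_mul, hzx, map_mul])
    (by rw [← map_mul, hzy, map_mul]) (by rw [← map_mul, hxy, map_mul, map_mul])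
  obtain ⟨g, hg⟩ := ClosedTwo.Elem.exists_conj_le S hQ
  obtain ⟨f, hf⟩ : ∃ f : H →* G, f = ((MulAut.conj g).toMonoidHom).comp j := ⟨_, rfl⟩
  have hfi : Function.Injective f := by rw [hf]; exact (MulAut.conj g).injective.comp hj
  have hfe : ∀ w, f w = g * j w * g⁻¹ := fun w => by rw [hf]; rfl
  have hXS : f x ∈ (S : Subgroup G) := by rw [hfe]; exact hg _ hxQ
  have hYS : f y ∈ (S : Subgroup G) := by rw [hfe]; exact hg _ hyQ
  have hPf := hP.comap f
  obtain ⟨X, hX⟩ : ∃ X, X = f x := ⟨_, rfl⟩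
  obtain ⟨Y, hY⟩ : ∃ Y, Y = f y := ⟨_, rfl⟩
  obtain ⟨Z, hZ⟩ : ∃ Z, Z = f z := ⟨_, rfl⟩
  have hZ1 : Z ≠ 1 := fun h0 => hz1 (hfi (by rw [← hZ, h0, map_one]))
  have hXp : X ^ p = 1 := by rw [hX, ← map_pow, hx, map_one]
  have hYp : Y ^ p = 1 := by rw [hY, ← map_pow, hy, map_one]
  have hZX : Commute Z X := by show Z * X = X * Z; rw [hZ, hX, ← map_mul, hzx, map_mul]
  have hZY : Commute Z Y := by show Z * Y = Y * Z; rw [hZ, hY, ← map_mul, hzy, map_mul]
  have hXY : X * Y = Z * (Y * X) := by rw [hZ, hX, hY, ← map_mul, hxy, map_mul, map_mul]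
  rw [← hX] at hXS
  rw [← hY] at hYS
  have hXYne : X * Y ≠ Y * X := by
    intro h0
    rw [hXY] at h0
    exact hZ1 (mul_eq_right.1 h0)
  have hZe : Z = X * Y * X⁻¹ * Y⁻¹ := by rw [hXY]; group
  have hZp : Z ^ p = 1 := by
    have h1 : X * Y * X⁻¹ = Z * Y := by rw [hXY]; group
    have h2 : (X * Y * X⁻¹) ^ p = (Z * Y) ^ p := by rw [h1]
    rw [conj_pow, hYp, mul_one, mul_inv_cancel, hZY.mul_pow, hYp, mul_one] at h2
    exact h2.symm
  have hp0 : p ≠ 0 := hp.out.ne_zero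
  -- the element `u`
  obtain ⟨u, v, huS, huD, huXY, hvD, hvp, huv⟩ : ∃ u v : G, u ∈ (S : Subgroup G) ∧ u ∉ h.D ∧ (u = X ∨ u = Y) ∧
      v ∈ h.D ∧ v ^ p = 1 ∧ u * v ≠ v * u := by
    by_cases hXD : X ∈ h.D
    · refine ⟨Y, X, hYS, fun hYD => hXYne (h.D_comm hXD hYD), Or.inr rfl, hXD, hXp, fun h0 => hXYne h0.symm⟩
    · obtain ⟨k, t, ht, hYt⟩ := hgen X hXS hXD Y hYS
      obtain ⟨m, hm⟩ := exists_nat_pow hp0 hXp (-k)
      have ht' : t = X ^ m * Y := by rw [← hm, hYt]; group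
      refine ⟨X, t, hXS, hXD, Or.inl rfl, ht, ?_, fun h0 => hXYne ?_⟩
      · rw [ht']
        refine heis_pow_eq_one hp2 (C := Z ^ m) (pow_mul_comm hXY hZX m) ((hZX.pow_left m).pow_right m)
          (hZY.pow_left m) ?_ hYp ?_
        · rw [← pow_mul, mul_comm, pow_mul, hXp, one_pow]
        · rw [← pow_mul, mul_comm, pow_mul, hZp, one_pow]
      · rw [ht'] at h0
        have h1 : X * X ^ m = X ^ m * X := by rw [← pow_succ, ← pow_succ']
        have h2 : X ^ m * (X * Y) = X ^ m * (Y * X) := by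
          rw [← mul_assoc, ← mul_assoc, ← h1, mul_assoc X]
          exact h0
        exact mul_left_cancel h2
  -- `Z ∈ D`
  have hZD : Z ∈ h.D := by
    rcases huXY with rfl | rfl
    · obtain ⟨k, t, ht, hYt⟩ := hgen u hXS huD Y hYS
      have e : Z = (u ^ k) * ((u * t * u⁻¹) * t⁻¹) * (u ^ k)⁻¹ := by
        rw [hZe, hYt]; group
      rw [e]
      exact hSD _ (zpow_mem hXS k) _ (h.D.mul_mem (hSD u hXS t ht) (h.D.inv_mem ht))
    · obtain ⟨k, t, ht, hXt⟩ := hgen u hYS huD X hXS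
      have e : Z = (u ^ k) * (t * (u * t⁻¹ * u⁻¹)) * (u ^ k)⁻¹ := by
        rw [hZe, hXt]; group
      rw [e]
      exact hSD _ (zpow_mem hYS k) _ (h.D.mul_mem ht (hSD u hYS _ (h.D.inv_mem ht)))
  -- a central element of the class
  obtain ⟨d, hd, hd1, hdc⟩ := H280.StrongFusion.exists_mem_center S (part_closed hP S) (part_ne_bot hP S hx0 hx01 hPx0)
  have hdD : d ∈ h.D := by
    by_contra hdD
    obtain ⟨k, t, ht, hXt⟩ := hgen d hd.1 hdD X hXS
    obtain ⟨l, w, hw, hYw⟩ := hgen d hd.1 hdD Y hYS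
    apply hXYne
    have h1 : ∀ t ∈ h.D, Commute d t := fun t ht => (hdc t (hDS ht)).symm
    have h2 : Commute (d ^ k * t) (d ^ l * w) := by
      refine Commute.mul_left ?_ ?_
      · exact ((Commute.refl d).zpow_zpow k l).mul_right ((h1 w hw).zpow_left k)
      · exact ((h1 t ht).symm.zpow_right l).mul_right (h.D_comm ht hw)
    rw [hXt, hYw]
    exact h2
  have hPZ : P Z := h.P_omega hP hdD hd1 hd.2 hZD hZp
  have hPfz : P (f z) := by rw [← hZ]; exact hPZ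
  have hzp : PEl p z := by
    refine ⟨1, hfi ?_⟩
    rw [pow_one, map_pow, ← hZ, hZp, map_one]
  have hPu : P u := by
    rcases huXY with rfl | rfl
    · rw [hX]
      exact hH _ hPf ⟨z, hzp, hz1, hPfz⟩ x ⟨1, by rw [pow_one, hx]⟩
    · rw [hY]
      exact hH _ hPf ⟨z, hzp, hz1, hPfz⟩ y ⟨1, by rw [pow_one, hy]⟩
  have hPlam : P lam := by
    refine h.P_lam hP (u := u) (hSD u huS) (fun t ht => ?_) hvD hvp huv
    have h1 := hP.mul S.2 huS (S.mul_mem (S.mul_mem (hDS ht) (S.inv_mem huS)) (S.inv_mem (hDS ht))) hPu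
      (hP.conj t (hP.inv hPu))
    rwa [← mul_assoc, ← mul_assoc] at h1
  have hPD : ∀ t ∈ h.D, P t := by
    rintro _ ⟨i, k, rfl⟩
    have hPel : PEl p lam := by simpa using h.pel_lam (p := p) 1
    have h1 : P (lam ^ i) := hP.zpow hPel hPlam i
    have h2 : P (mu ^ k) := (h.P_mu_iff hP).2 (hP.zpow hPel hPlam k)
    exact hP.mul h.isPGroup_D ⟨i, 0, by rw [zpow_zero, mul_one]⟩ ⟨0, k, by rw [zpow_zero, one_mul]⟩ h1 h2
  intro w hw
  refine all_of_sylow hP S (fun w hw => ?_) hw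
  obtain ⟨k, t, ht, rfl⟩ := hgen u huS huD w hw
  exact hP.mul S.2 (zpow_mem huS k) (hDS ht) (hP.zpow (PEl.of_isPGroup S.2 huS) hPu k) (hPD t ht)

/-- the torus of a pair of commuting subgroups interchanged by `s` -/
theorem exists_tor (L M : Subgroup G) (s : G)
    (hcomm : ∀ l ∈ L, ∀ m ∈ M, l * m = m * l) (hs1 : ∀ l ∈ L, s * l * s⁻¹ ∈ M)
    (hcyc : ∀ P : Subgroup G, P ≤ L → IsPGroup p P → IsCyclic P)
    (hq : ∀ K : Subgroup L, K.Normal → (∀ g : L, ∃ k : ℕ, g ^ p ^ k ∈ K) → K = ⊤)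
    (hL : 1 ≤ (Nat.card L).factorization p) :
    ∃ (lam mu c c' : G) (r : ℤ), Tor p ((Nat.card L).factorization p) lam mu s c c' r := by
  classical
  obtain ⟨P⟩ : Nonempty (Sylow p L) := inferInstance
  set PL : Subgroup G := (P : Subgroup L).map L.subtype with hPL
  have hPLL : PL ≤ L := map_subtype_le _
  have hPLp : IsPGroup p PL := P.2.map _
  have hPLc : IsCyclic PL := hcyc PL hPLL hPLp
  have hcPL : Nat.card PL = p ^ (Nat.card L).factorization p := by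
    rw [hPL, Nat.card_congr ((P : Subgroup L).equivMapOfInjective L.subtype L.subtype_injective).toEquiv.symm,
      Sylow.card_eq_multiplicity]
  have hbot : (P : Subgroup L) ≠ ⊥ := by
    intro h0
    have h2 := Sylow.card_eq_multiplicity P
    rw [h0, card_bot] at h2
    have h3 : 1 < p ^ (Nat.card L).factorization p := Nat.one_lt_pow (by omega) hp.out.one_lt
    omega
  have hPcomm : IsMulCommutative (P : Subgroup L) := by
    have : IsMulCommutative PL := IsCyclic.isMulCommutative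
    exact H795.isMulCommutative_of fun a ha b hb => Subtype.ext
      (H795.comm_of this (mem_map_of_mem L.subtype ha) (mem_map_of_mem L.subtype hb))
  obtain ⟨c, hc, z, hz, hzp, hcz⟩ := H42.Tw.exists_moving P hPcomm hbot hq
  obtain ⟨⟨lam, hlam⟩, hgen⟩ := hPLc.exists_generator
  have hmem : ∀ x ∈ PL, ∃ i : ℤ, x = lam ^ i := by
    intro x hx
    obtain ⟨i, hi⟩ := mem_zpowers_iff.1 (hgen ⟨x, hx⟩)
    exact ⟨i, (congrArg Subtype.val hi).symm⟩
  have hord : orderOf lam = p ^ (Nat.card L).factorization p := by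
    rw [← hcPL, ← Nat.card_zpowers]
    have e : zpowers lam = PL := by
      apply le_antisymm (zpowers_le.2 hlam)
      intro x hx
      obtain ⟨i, rfl⟩ := hmem x hx
      exact zpow_mem (mem_zpowers lam) i
    rw [e]
  obtain ⟨r, hr⟩ := hmem ((c : G) * lam * (c : G)⁻¹) (by
    obtain ⟨w, hw, hwe⟩ := hlam
    refine ⟨c * w * c⁻¹, (mem_normalizer_iff.1 hc w).1 hw, ?_⟩
    rw [← hwe]
    rfl)
  have hzG : (z : G) ∈ PL := mem_map_of_mem L.subtype hz
  obtain ⟨k, hk⟩ := hmem z hzG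
  have hndvd : ¬ (p : ℤ) ∣ r - 1 := by
    rintro ⟨m, hm⟩
    apply hcz
    apply Subtype.ext
    show (c : G) * z * (c : G)⁻¹ = z
    have hzp' : (z : G) ^ p = 1 := congrArg Subtype.val hzp
    have h1 : (c : G) * z * (c : G)⁻¹ = (z : G) ^ r := by
      rw [hk, ← conj_zpow, hr, ← zpow_mul, ← zpow_mul, mul_comm]
    rw [h1, show r = 1 + (p : ℤ) * m by linarith, zpow_add, zpow_one, zpow_mul, zpow_natCast, hzp', one_zpow, mul_one]
  have hlL : lam ∈ L := hPLL hlam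
  have hmu : s * lam * s⁻¹ ∈ M := hs1 _ hlL
  refine ⟨lam, s * lam * s⁻¹, c, s * c * s⁻¹, r, ?_⟩
  refine ⟨hcomm _ hlL _ hmu, hord, ?_, rfl, hr, ?_, ?_, ?_, hndvd, hL⟩
  · intro i j hij
    have h1 : lam ^ i ∈ M := by
      rw [eq_inv_of_mul_eq_one_left hij]
      exact M.inv_mem (M.zpow_mem hmu j)
    have h2 : (c : G) * lam ^ i * (c : G)⁻¹ = lam ^ i := by
      rw [hcomm c c.2 _ h1, mul_inv_cancel_right]
    rw [← conj_zpow, hr, ← zpow_mul] at h2
    have h3 : lam ^ ((r - 1) * i) = 1 := by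
      rw [sub_mul, one_mul, zpow_sub, h2, mul_inv_cancel]
    rw [← orderOf_dvd_iff_zpow_eq_one, hord] at h3 ⊢
    push_cast at h3 ⊢
    exact (((Nat.prime_iff_prime_int.1 hp.out).coprime_iff_not_dvd.2 hndvd).pow_left).dvd_of_dvd_mul_left h3
  · rw [hcomm c c.2 _ hmu, mul_inv_cancel_right]
  · calc s * (c : G) * s⁻¹ * (s * lam * s⁻¹) * (s * (c : G) * s⁻¹)⁻¹ = s * ((c : G) * lam * (c : G)⁻¹) * s⁻¹ := by group
      _ = _ := by rw [hr, conj_zpow]
  · rw [← hcomm _ hlL _ (hs1 c c.2), mul_inv_cancel_right]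

/-- **`FullP` from a pair and a subgroup with `FullP`.** -/
theorem fullP_of_pair (hp2 : p ≠ 2) (L M : Subgroup G) (s : G)
    (hcomm : ∀ l ∈ L, ∀ m ∈ M, l * m = m * l) (hs1 : ∀ l ∈ L, s * l * s⁻¹ ∈ M)
    (hcyc : ∀ P : Subgroup G, P ≤ L → IsPGroup p P → IsCyclic P)
    (hq : ∀ K : Subgroup L, K.Normal → (∀ g : L, ∃ k : ℕ, g ^ p ^ k ∈ K) → K = ⊤)
    {b : ℕ} (hb : 1 ≤ b) (hbL : b ≤ (Nat.card L).factorization p) (hG : (Nat.card G).factorization p = 2 * b + 1)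
    {H : Type*} [Group H] (j : H →* G) (hj : Function.Injective j) (hH : FullP p H) {x y z : H} (hx : x ^ p = 1)
    (hy : y ^ p = 1) (hzx : z * x = x * z) (hzy : z * y = y * z) (hxy : x * y = z * (y * x)) (hz1 : z ≠ 1) :
    FullP p G := by
  obtain ⟨lam, mu, c, c', r, h⟩ := exists_tor L M s hcomm hs1 hcyc hq (hb.trans hbL)
  refine fullP_of_torus hp2 h ?_ j hj hH hx hy hzx hzy hxy hz1
  have h1 : 2 * (Nat.card L).factorization p ≤ (Nat.card G).factorization p := by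
    rw [← hp.out.pow_dvd_iff_le_factorization Nat.card_pos.ne', ← h.card_D]
    exact card_subgroup_dvd_card h.D
  omega

end Cfsg.Agent.H760.PairFull
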