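import Cfsg.Agent.H760.StrOdd
import Cfsg.Agent.H794.Full
/-!
# The prime 2 (helper760, for S5305)

`ConclTwo G` is the conclusion of S1252 for `G`, `RowTwo` : `Full 2 L` or `NFus 2 L` for `L` nonabelian simple.

* `Sit.ctl_two` : `N_G(S)` controls strong fusion in `S`;
* `Sit.ctl_two_A` : so does `N_G(A)`.
-/
set_option autoImplicit false

universe u

namespace Cfsg.Agent.H760.Str

open Subgroup Cfsg
open scoped commutatorElement

/-- the statement of S1252 for `G` -/
def ConclTwo (G : Type*) [Group G] : Prop :=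
  ∀ (S : Sylow 2 G) (A : Subgroup G), Cfsg.IsStronglyClosed A (S : Subgroup G) →
    Even (A.relIndex (Subgroup.normalClosure (A : Set G))) →
    (∀ N : Subgroup G, N.Normal → N ≠ ⊥ → Even ((A ⊓ N).relIndex N)) →
    A ≠ ⊥ ∧ ∃ (r : ℕ) (L : Fin r → Subgroup G), (∀ i j, i ≠ j → ∀ a ∈ L i, ∀ b ∈ L j, a * b = b * a) ∧
      (∀ i, L i ⊓ (⨆ j ∈ {j | j ≠ i}, L j) = ⊥) ∧ (⨆ i, L i) = Subgroup.normalClosure (A : Set G) ∧
      (∀ i, IsSimpleGroup ↥(L i) ∧ ((∃ (F : Type) (_ : Field F) (_ : Fintype F) (q : ℕ), Fintype.card F = q ^ 2 ∧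
        Even q ∧ 4 ≤ q ∧ Nonempty (↥(L i) ≃* Cfsg.PSU 3 F q)) ∨ Cfsg.IsSuzuki ↥(L i))) ∧
      (∀ i, ∃ P : Sylow 2 ↥(L i), (A ⊓ L i) =
        ((Subgroup.center (P : Subgroup ↥(L i))).map (P : Subgroup ↥(L i)).subtype).map (L i).subtype)

/-- the rows for `p = 2` -/
def RowTwo : Prop :=
  ∀ (L : Type u) [Group L] [Finite L] [IsSimpleGroup L], ¬ IsMulCommutative L → H794.Full 2 L ∨ H794.NFus 2 L

variable {G : Type u} [Group G] [Finite G]
variable {S : Sylow 2 G} {A : Subgroup G}

/-- normality of `S ∩ K` from `NFus` for `K`. -/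
theorem isNormal_of_nfus {p : ℕ} [Fact p.Prime] (S : Sylow p G) {K : Subgroup G} (hK : K.Normal) (h : H794.NFus p K) :
    (groupFusionSystem (S : Subgroup G)).IsNormal ((S : Subgroup G) ⊓ K) := by
  have hQK : ¬ p ∣ (S : Subgroup G).relIndex K :=
    H222.SylowJoin.not_dvd_relIndex_of_subnormal S.2 S.not_dvd_index (Normal.isSubnormal hK)
  have hQp : IsPGroup p ↥((S : Subgroup G).subgroupOf K) := S.2.comap_of_injective K.subtype K.subtype_injective
  let P : Sylow p K := hQp.toSylow hQK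
  refine isNormal_of_mod S (Z := ⊥) hK inferInstance bot_le (fun z hz k _ => by
    rw [mem_bot.1 hz, mul_one, one_mul]) ?_
  intro x hx g hg hgx
  obtain ⟨n, hn, hnx⟩ := h P (zpowers ⟨x, hx.2⟩) (zpowers_le.2 hx.1) ⟨g, hg⟩ (by
    intro y hy
    obtain ⟨k, rfl⟩ := mem_zpowers_iff.1 hy
    rw [← conj_zpow]
    refine zpow_mem ?_ k
    exact hgx)
  refine ⟨n, n.2, Transfer.FusionBasic.mem_normalizer_of_conj_mem fun q hq => ?_, ?_⟩
  · exact ⟨(mem_normalizer_iff.1 hn ⟨q, hq.2⟩).1 hq.1, K.mul_mem (K.mul_mem n.2 hq.2) (K.inv_mem n.2)⟩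
  · have h1 : (n : G) * x * (n : G)⁻¹ = g * x * g⁻¹ := congrArg Subtype.val (hnx _ (mem_zpowers _))
    rw [h1, inv_mul_cancel]
    exact one_mem _

theorem Sit.ctl_two (hC : ConclTwo G) (hR : RowTwo.{u}) (h : Sit S A) : Ctl (S : Subgroup G) (S : Subgroup G) := by
  have hF2 : Fact (Nat.Prime 2) := ⟨Nat.prime_two⟩
  by_cases hev : Even (A.relIndex (Subgroup.normalClosure (A : Set G)))
  swap
  · -- the trivial group
    have h1 : (⊤ : Subgroup G) = ⊥ := by
      refine h.max ⊤ inferInstance fun hd => hev ?_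
      rw [inf_top_eq] at hd
      rw [h.gen]
      exact even_iff_two_dvd.2 hd
    have h2 : ∀ x : G, x = 1 := fun x => by
      have : x ∈ (⊤ : Subgroup G) := mem_top x
      rwa [h1, mem_bot] at this
    intro B _ g _
    exact ⟨1, one_mem _, fun x _ => by rw [h2 (1 * x * 1⁻¹), h2 (g * x * g⁻¹)]⟩
  obtain ⟨-, r, L, hcomm, -, hsup, hsimp, hcen⟩ := hC S A h.closed hev (by
    intro N hN hN1
    by_contra hne
    exact hN1 (h.max N hN fun hd => hne (even_iff_two_dvd.2 hd)))
  rw [h.gen] at hsup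
  -- the factors are normal
  have hLn : ∀ i, (L i).Normal := by
    intro i
    rw [← normalizer_eq_top_iff, eq_top_iff, ← hsup]
    refine iSup_le fun j => ?_
    by_cases hij : j = i
    · rw [hij]; exact le_normalizer
    · intro x hx
      refine Transfer.FusionBasic.mem_normalizer_of_conj_mem fun y hy => ?_
      rw [hcomm j i hij x hx y hy, mul_inv_cancel_right]
      exact hy
  have hnorm : ∀ i, (groupFusionSystem (S : Subgroup G)).IsNormal ((S : Subgroup G) ⊓ L i) := by
    intro i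
    refine isNormal_of_nfus S (hLn i) ?_
    have hs := (hsimp i).1
    by_cases hc : IsMulCommutative (L i)
    · exact H794.NFus.of_comm fun P => ⟨⟨fun a b => Subtype.ext (hc.1.1 a b)⟩⟩
    rcases hR (L i) hc with hF | hF
    swap
    · exact hF
    exfalso
    have hQK : ¬ 2 ∣ (S : Subgroup G).relIndex (L i) :=
      H222.SylowJoin.not_dvd_relIndex_of_subnormal S.2 S.not_dvd_index (Normal.isSubnormal (hLn i))
    have hQp : IsPGroup 2 ↥((S : Subgroup G).subgroupOf (L i)) := S.2.comap_of_injective (L i).subtype (L i).subtype_injective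
    let P : Sylow 2 (L i) := hQp.toSylow hQK
    have hne : L i ≠ ⊥ := by
      intro hb
      have hnt : Nontrivial (L i) := inferInstance
      rw [hb] at hnt
      exact not_nontrivial _ hnt
    refine hne (h.normal_le (hLn i) ?_)
    rcases hF P (A.subgroupOf (L i)) (H280.StrongQuot.stronglyClosed_subgroupOf h.closed) with h1 | h1
    · -- `A ∩ L = 1`
      have h2 : A ⊓ L i = ⊥ := by
        rw [eq_bot_iff]
        intro x hx
        have : (⟨x, hx.2⟩ : L i) ∈ A.subgroupOf (L i) := hx.1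
        rw [h1, mem_bot] at this
        exact congrArg Subtype.val this
      obtain ⟨Q, hQ⟩ := hcen i
      rw [h2] at hQ
      have h3 : center (Q : Subgroup (L i)) = ⊥ := by
        rw [eq_bot_iff]
        intro z hz
        have h4 : ((z : L i) : G) ∈ (⊥ : Subgroup G) := by
          rw [hQ]
          exact ⟨z, ⟨z, hz, rfl⟩, rfl⟩
        exact Subtype.ext (Subtype.ext (mem_bot.1 h4))
      have h5 : Subsingleton (Q : Subgroup (L i)) := by
        by_contra hns
        rw [not_subsingleton_iff_nontrivial] at hns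
        have := Q.2.center_nontrivial
        rw [h3] at this
        exact not_nontrivial _ this
      have h6 : Nat.card (P : Subgroup (L i)) = 1 := by
        rw [Sylow.card_eq_multiplicity, ← Sylow.card_eq_multiplicity Q]
        exact Nat.card_of_subsingleton (1 : (Q : Subgroup (L i)))
      intro x hx
      have h7 : (⟨x, hx.2⟩ : L i) ∈ (P : Subgroup (L i)) := hx.1
      rw [Subgroup.card_eq_one.1 h6, mem_bot] at h7
      have h8 : x = 1 := congrArg Subtype.val h7
      rw [h8]
      exact one_mem _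
    · intro x hx
      have : (⟨x, hx.2⟩ : L i) ∈ (P : Subgroup (L i)) := hx.1
      rw [← h1] at this
      exact this
  have hSS : (groupFusionSystem (S : Subgroup G)).IsNormal (S : Subgroup G) := by
    have h1 : (S : Subgroup G) = sSup {B | ∃ K ∈ Set.range L, B = (S : Subgroup G) ⊓ K} := by
      refine le_antisymm ?_ (sSup_le ?_)
      · have h2 := inf_sSup S (𝒦 := Set.range L) (by rintro _ ⟨i, rfl⟩; exact hLn i)
        rw [sSup_range, hsup, inf_top_eq] at h2
        exact h2
      · rintro _ ⟨_, -, rfl⟩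
        exact inf_le_left
    conv_rhs => rw [h1]
    refine H792.isNormal_sSup ?_
    rintro _ ⟨_, ⟨i, rfl⟩, rfl⟩
    exact hnorm i
  exact ctl_of_isNormal hSS

theorem Sit.ctl_two_A (hC : ConclTwo G) (hR : RowTwo.{u}) (h : Sit S A) : Ctl (S : Subgroup G) A := by
  intro B hB g hg
  obtain ⟨n, hn, hnB⟩ := h.ctl_two hC hR B hB g hg
  refine ⟨n, Transfer.FusionBasic.mem_normalizer_of_conj_mem fun a ha => ?_, hnB⟩
  exact h.closed.2 a ha n ((mem_normalizer_iff.1 hn a).1 (h.closed.1 ha))

end Cfsg.Agent.H760.Str
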