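import Cfsg.Agent.H760.StrMin
/-!
# Control of strong fusion (helper760, for S5305)

* `ctl_of_isNormal` : `Q` normal in `F_S(G)`: `N_G(Q)` controls strong fusion in `S`;
* `isNormal_of_mod` : criterion for `S ∩ K` normal in `F_S(G)`, `K` normal in `G`.
* `ctl_of_mul` : `D = (S ∩ D) W` normal in `H`, `W` a normal `p'`-subgroup: `N_H(S ∩ D)` controls strong fusion.
-/
set_option autoImplicit false

universe u

namespace Cfsg.Agent.H760.Str

open Subgroup Cfsg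
open scoped commutatorElement

/-- the normalizer of `Q` controls strong fusion in `S` -/
def Ctl {G : Type*} [Group G] (S Q : Subgroup G) : Prop :=
  ∀ B : Subgroup G, B ≤ S → ∀ g : G, (∀ x ∈ B, g * x * g⁻¹ ∈ S) →
    ∃ n ∈ normalizer (Q : Set G), ∀ x ∈ B, n * x * n⁻¹ = g * x * g⁻¹

variable {G : Type u} [Group G]

theorem ctl_of_isNormal {S Q : Subgroup G} [Finite G] (h : (groupFusionSystem S).IsNormal Q) : Ctl S Q := by
  intro B hB g hg
  have hφ : conjHom B g ∈ (groupFusionSystem S).Hom B := ⟨hB, fun x => hg x x.2, g, fun x => rfl⟩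
  obtain ⟨ψ, ⟨-, -, n, hn⟩, hψ, hmap⟩ := h.2 _ _ hφ
  refine ⟨n, Transfer.FusionBasic.mem_normalizer_of_conj_mem fun q hq => ?_, fun x hx => ?_⟩
  · have h1 : ψ ⟨q, mem_sup_right hq⟩ ∈ Q := by
      have h2 : ψ ⟨q, mem_sup_right hq⟩ ∈ (Q.subgroupOf (B ⊔ Q)).map ψ := ⟨⟨q, mem_sup_right hq⟩, hq, rfl⟩
      rw [hmap] at h2
      exact h2
    rw [hn] at h1
    exact h1
  · have h1 := hψ ⟨x, hx⟩
    rw [hn] at h1
    exact h1

theorem stronglyClosed_fusion {S Q : Subgroup G} (h : IsStronglyClosed Q S) : (groupFusionSystem S).StronglyClosed Q := by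
  refine ⟨h.1, ?_⟩
  rintro R hR φ ⟨hRS, hφ, g, hg⟩ x
  have h1 := hφ x
  rw [hg] at h1 ⊢
  exact h.2 _ (hR x.2) g h1

theorem isStronglyClosed_of_isNormal [Finite G] {S Q : Subgroup G} (h : (groupFusionSystem S).IsNormal Q) :
    IsStronglyClosed Q S := by
  refine ⟨h.1, fun x hx g hg => ?_⟩
  obtain ⟨n, hn, hnx⟩ := ctl_of_isNormal h (zpowers x) (zpowers_le.2 (h.1 hx)) g (by
    intro y hy
    obtain ⟨k, rfl⟩ := mem_zpowers_iff.1 hy
    rw [← conj_zpow]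
    exact zpow_mem hg k)
  rw [← hnx x (mem_zpowers x)]
  exact (mem_normalizer_iff.1 hn x).1 hx

variable [Finite G] {p : ℕ} [hpf : Fact p.Prime]

/-- `R_0 = Z`, `R_(i+1) = {x : [x, Q] ⊆ R_i}` -/
def Rel (Q Z : Subgroup G) : ℕ → G → Prop
  | 0 => fun x => x ∈ Z
  | n + 1 => fun x => ∀ q ∈ Q, Rel Q Z n (x * q * x⁻¹ * q⁻¹)

omit [Finite G] hpf in
theorem rel_iff {Q Z : Subgroup G} [(Z.subgroupOf Q).Normal] (n : ℕ) : ∀ x : Q,
    Rel Q Z n x ↔ (QuotientGroup.mk' (Z.subgroupOf Q)) x ∈ Subgroup.upperCentralSeries (Q ⧸ Z.subgroupOf Q) n := by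
  induction n with
  | zero =>
    intro x
    rw [Subgroup.upperCentralSeries_zero, mem_bot, QuotientGroup.mk'_apply, QuotientGroup.eq_one_iff]
    rfl
  | succ n ih =>
    intro x
    rw [Subgroup.mem_upperCentralSeries_succ_iff]
    constructor
    · intro h y
      obtain ⟨q, rfl⟩ := QuotientGroup.mk'_surjective (Z.subgroupOf Q) y
      have h1 := (ih (x * q * x⁻¹ * q⁻¹)).1 (h q q.2)
      rw [map_mul, map_mul, map_mul, map_inv, map_inv] at h1
      rwa [commutatorElement_def]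
    · intro h q hq
      have h1 := h ((QuotientGroup.mk' (Z.subgroupOf Q)) ⟨q, hq⟩)
      exact (ih (x * ⟨q, hq⟩ * x⁻¹ * ⟨q, hq⟩⁻¹)).2 (by
        rw [map_mul, map_mul, map_mul, map_inv, map_inv]
        rwa [commutatorElement_def] at h1)

omit [Finite G] hpf in
theorem rel_conj {Q Z : Subgroup G} (hZ : Z.Normal) {h : G} (hh : h ∈ normalizer (Q : Set G)) (n : ℕ) :
    ∀ x : G, Rel Q Z n x → Rel Q Z n (h * x * h⁻¹) := by
  induction n with
  | zero => exact fun x hx => hZ.conj_mem x hx h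
  | succ n ih =>
    intro x hx q hq
    have h1 : h⁻¹ * q * h ∈ Q := by
      have := (mem_normalizer_iff.1 (inv_mem hh) q).1 hq
      rwa [inv_inv] at this
    have h2 := ih _ (hx _ h1)
    have e : h * (x * (h⁻¹ * q * h) * x⁻¹ * (h⁻¹ * q * h)⁻¹) * h⁻¹ = h * x * h⁻¹ * q * (h * x * h⁻¹)⁻¹ * q⁻¹ := by
      group
    rwa [e] at h2

/-- **Frattini.** -/
theorem frattini_factor (S : Sylow p G) {K : Subgroup G} (hK : K.Normal) (g : G) :
    ∃ h ∈ normalizer (((S : Subgroup G) ⊓ K : Subgroup G) : Set G), ∃ k ∈ K, g = h * k := by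
  have hQKi : ¬ p ∣ (S : Subgroup G).relIndex K :=
    H222.SylowJoin.not_dvd_relIndex_of_subnormal S.2 S.not_dvd_index (Normal.isSubnormal hK)
  have hQp : IsPGroup p ↥((S : Subgroup G).subgroupOf K) := S.2.comap_of_injective K.subtype K.subtype_injective
  let P : Sylow p K := hQp.toSylow hQKi
  have : K.Normal := hK
  have hP : (P : Subgroup K).map K.subtype = (S : Subgroup G) ⊓ K := by
    show ((S : Subgroup G).subgroupOf K).map K.subtype = _
    rw [subgroupOf_map_subtype]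
  have h1 := Sylow.normalizer_sup_eq_top P
  rw [hP] at h1
  have h2 : g ∈ normalizer (((S : Subgroup G) ⊓ K : Subgroup G) : Set G) ⊔ K := by rw [h1]; exact mem_top g
  have h3 : g ∈ ((normalizer (((S : Subgroup G) ⊓ K : Subgroup G) : Set G) ⊔ K : Subgroup G) : Set G) := h2
  rw [Subgroup.mul_normal] at h3
  obtain ⟨h, hh, k, hk, rfl⟩ := h3
  exact ⟨h, hh, k, hk, rfl⟩

/-- **Criterion.** `Q = S ∩ K`, `Z` central in `K`, normal in `G`. -/
theorem isNormal_of_mod (S : Sylow p G) {K Z : Subgroup G} (hK : K.Normal) (hZ : Z.Normal)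
    (hZS : Z ≤ (S : Subgroup G) ⊓ K) (hZK : ∀ z ∈ Z, ∀ k ∈ (S : Subgroup G) ⊓ K, k * z = z * k)
    (hctl : ∀ x ∈ (S : Subgroup G) ⊓ K, ∀ g ∈ K, g * x * g⁻¹ ∈ (S : Subgroup G) →
      ∃ n ∈ K, n ∈ normalizer (((S : Subgroup G) ⊓ K : Subgroup G) : Set G) ∧ (n * x * n⁻¹)⁻¹ * (g * x * g⁻¹) ∈ Z) :
    (groupFusionSystem (S : Subgroup G)).IsNormal ((S : Subgroup G) ⊓ K) := by
  classical
  obtain ⟨Q, hQ⟩ : ∃ Q, Q = (S : Subgroup G) ⊓ K := ⟨_, rfl⟩
  rw [← hQ] at hZS hZK hctl ⊢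
  have hQS : Q ≤ (S : Subgroup G) := by rw [hQ]; exact inf_le_left
  have hQK : Q ≤ K := by rw [hQ]; exact inf_le_right
  -- every element is a product of an element of `N(Q)` and one of `K`
  have hfr : ∀ g : G, ∃ h ∈ normalizer (Q : Set G), ∃ k ∈ K, g = h * k := by
    intro g
    rw [hQ]
    exact frattini_factor S hK g
  have hQp : IsPGroup p Q := S.2.to_le hQS
  have hnilQ : Group.IsNilpotent Q := hQp.isNilpotent
  have hZn : (Z.subgroupOf Q).Normal := hZ.subgroupOf Q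
  have hnil : Group.IsNilpotent (Q ⧸ Z.subgroupOf Q) := Group.nilpotent_quotient_of_nilpotent _
  obtain ⟨m, hm⟩ := hnil.nilpotent
  let C : ℕ → Subgroup G := fun n =>
    ((Subgroup.upperCentralSeries (Q ⧸ Z.subgroupOf Q) n).comap (QuotientGroup.mk' (Z.subgroupOf Q))).map Q.subtype
  have hC : ∀ n x, x ∈ C n ↔ x ∈ Q ∧ Rel Q Z n x := by
    intro n x
    constructor
    · rintro ⟨y, hy, rfl⟩
      exact ⟨y.2, (rel_iff n y).2 hy⟩
    · rintro ⟨hx, hr⟩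
      exact ⟨⟨x, hx⟩, (rel_iff n ⟨x, hx⟩).1 hr, rfl⟩
  have hCQ : ∀ n, C n ≤ Q := fun n x hx => ((hC n x).1 hx).1
  have hZC : ∀ n, Z ≤ C n := by
    intro n z hz
    refine ⟨⟨z, hZS hz⟩, ?_, rfl⟩
    have h1 : (QuotientGroup.mk' (Z.subgroupOf Q)) ⟨z, hZS hz⟩ = 1 := (QuotientGroup.eq_one_iff _).2 hz
    rw [SetLike.mem_coe, mem_comap, h1]
    exact one_mem _
  have hCh : ∀ n, ∀ h ∈ normalizer (Q : Set G), ∀ x ∈ C n, h * x * h⁻¹ ∈ C n := by
    intro n h hh x hx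
    rw [hC] at hx ⊢
    exact ⟨(mem_normalizer_iff.1 hh x).1 hx.1, rel_conj hZ hh n x hx.2⟩
  have hclosed : ∀ n, IsStronglyClosed (C n) (S : Subgroup G) := by
    intro n
    refine ⟨(hCQ n).trans hQS, fun x hx g hg => ?_⟩
    obtain ⟨h, hh, k, hk, rfl⟩ := hfr g
    have hxK : x ∈ K := hQK (hCQ n hx)
    have hgQ : h * k * x * (h * k)⁻¹ ∈ Q := by
      rw [hQ]
      exact ⟨hg, hK.conj_mem x hxK _⟩
    have hy : k * x * k⁻¹ ∈ Q := by
      have h1 := (mem_normalizer_iff.1 (inv_mem hh) _).1 hgQ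
      have e : h⁻¹ * (h * k * x * (h * k)⁻¹) * h⁻¹⁻¹ = k * x * k⁻¹ := by group
      rwa [e] at h1
    obtain ⟨n', -, hn', hz⟩ := hctl x (hCQ n hx) k hk (hQS hy)
    have h2 := (C n).mul_mem (hCh n n' hn' x hx) (hZC n hz)
    rw [mul_inv_cancel_left] at h2
    have h3 := hCh n h hh _ h2
    have e : h * (k * x * k⁻¹) * h⁻¹ = h * k * x * (h * k)⁻¹ := by group
    rwa [e] at h3
  have hfinS : Finite (S : Subgroup G) := inferInstance
  let c : ℕ → Subgroup G := fun i => match i with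
    | 0 => ⊥
    | i + 1 => C i
  have hc0 : c 0 = ⊥ := rfl
  have hcs : ∀ i, c (i + 1) = C i := fun _ => rfl
  refine H759.isNormal_of_chain S.2 (H802.groupFusionSystem_isSaturated S) (m + 1) c hc0 ?_ ?_ ?_
  · rw [hcs]
    refine le_antisymm (hCQ m) fun x hx => ⟨⟨x, hx⟩, ?_, rfl⟩
    rw [SetLike.mem_coe, mem_comap, hm]
    exact mem_top _
  · intro i _
    cases i with
    | zero =>
      rw [hc0]
      refine stronglyClosed_fusion ⟨bot_le, fun x hx g _ => ?_⟩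
      rw [mem_bot] at hx ⊢
      rw [hx, mul_one, mul_inv_cancel]
    | succ i => exact stronglyClosed_fusion (hclosed i)
  · intro i _
    cases i with
    | zero =>
      rw [hc0, hcs, commutator_le]
      intro q hq x hx
      have hxZ : x ∈ Z := ((hC 0 x).1 hx).2
      rw [mem_bot, commutatorElement_def, hZK x hxZ q hq, mul_inv_cancel_right, mul_inv_cancel]
    | succ i =>
      rw [hcs, hcs, commutator_le]
      intro q hq x hx
      have hxQ := hCQ _ hx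
      have h1 : x * q * x⁻¹ * q⁻¹ ∈ C i := by
        rw [hC]
        exact ⟨Q.mul_mem (Q.mul_mem (Q.mul_mem hxQ hq) (Q.inv_mem hxQ)) (Q.inv_mem hq), ((hC _ x).1 hx).2 q hq⟩
      have h2 := (C i).inv_mem h1
      have e : (x * q * x⁻¹ * q⁻¹)⁻¹ = ⁅q, x⁆ := by
        rw [commutatorElement_def]; group
      rwa [e] at h2

/-- **The last step**: `D = (S ∩ D) W`, `D` normal, `W` a normal `p'`-subgroup. -/
theorem ctl_of_mul (S : Sylow p G) {D W : Subgroup G} (hD : D.Normal) (hW : W.Normal)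
    (hWp : ¬ p ∣ Nat.card W) (hDW : ∀ d ∈ D, ∃ w ∈ W, ∃ s ∈ (S : Subgroup G) ⊓ D, d = w * s) :
    Ctl (S : Subgroup G) ((S : Subgroup G) ⊓ D) := by
  intro B hB g hg
  obtain ⟨T, hT⟩ : ∃ T, T = (S : Subgroup G) ⊓ D := ⟨_, rfl⟩
  obtain ⟨h0, hh0, d, hd, hgd⟩ := frattini_factor S hD g
  -- `g = w n₁`
  have hd' : h0 * d * h0⁻¹ ∈ D := hD.conj_mem d hd h0
  obtain ⟨w, hw, s, hs, hws⟩ := hDW _ hd'
  have hn1 : s * h0 ∈ normalizer (((S : Subgroup G) ⊓ D : Subgroup G) : Set G) := mul_mem (le_normalizer hs) hh0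
  have hg1 : g = w * (s * h0) := by
    rw [← mul_assoc, ← hws, hgd]; group
  obtain ⟨n1, hn1e⟩ : ∃ n1, n1 = s * h0 := ⟨_, rfl⟩
  rw [← hn1e] at hn1 hg1
  rw [← hT] at hn1 ⊢
  -- the group `Y`
  have hSN : (S : Subgroup G) ≤ normalizer (T : Set G) := by
    intro s hs
    refine Transfer.FusionBasic.mem_normalizer_of_conj_mem fun t ht => ?_
    rw [hT] at ht ⊢
    exact ⟨(S : Subgroup G).mul_mem ((S : Subgroup G).mul_mem hs ht.1) ((S : Subgroup G).inv_mem hs), hD.conj_mem t ht.2 s⟩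
  let Y : Subgroup G := ((S : Subgroup G) ⊔ W) ⊓ normalizer (T : Set G)
  have hSY : (S : Subgroup G) ≤ Y := le_inf le_sup_left hSN
  have hmemSW : ∀ y ∈ (S : Subgroup G) ⊔ W, ∃ a ∈ (S : Subgroup G), ∃ v ∈ W, y = a * v := by
    intro y hy
    have h3 : y ∈ (((S : Subgroup G) ⊔ W : Subgroup G) : Set G) := hy
    rw [Subgroup.mul_normal] at h3
    obtain ⟨a, ha, v, hv, rfl⟩ := h3
    exact ⟨a, ha, v, hv, rfl⟩
  have hB1Y : B.map (MulAut.conj n1).toMonoidHom ≤ Y := by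
    rintro _ ⟨x, hx, rfl⟩
    refine ⟨?_, (normalizer (T : Set G)).mul_mem ((normalizer (T : Set G)).mul_mem hn1 (hSN (hB hx)))
      ((normalizer (T : Set G)).inv_mem hn1)⟩
    have h1 : (MulAut.conj n1).toMonoidHom x = w⁻¹ * (g * x * g⁻¹) * w := by
      show n1 * x * n1⁻¹ = _
      rw [hg1]; group
    rw [h1]
    exact Subgroup.mul_mem _ (Subgroup.mul_mem _ (mem_sup_right (W.inv_mem hw)) (mem_sup_left (hg x hx))) (mem_sup_right hw)
  have hB1p : IsPGroup p (B.map (MulAut.conj n1).toMonoidHom) := (S.2.to_le hB).map _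
  let SY : Sylow p Y := S.subtype hSY
  obtain ⟨y, hy⟩ := ClosedTwo.Elem.exists_conj_le SY (P := (B.map (MulAut.conj n1).toMonoidHom).subgroupOf Y)
    (hB1p.comap_of_injective Y.subtype Y.subtype_injective)
  have hyS : ∀ x ∈ B, (y : G) * (n1 * x * n1⁻¹) * (y : G)⁻¹ ∈ (S : Subgroup G) := by
    intro x hx
    have h1 : n1 * x * n1⁻¹ ∈ B.map (MulAut.conj n1).toMonoidHom := ⟨x, hx, rfl⟩
    exact hy ⟨_, hB1Y h1⟩ h1
  obtain ⟨a, ha, v, hv, hyav⟩ := hmemSW y y.2.1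
  have hvS : ∀ x ∈ B, (v * n1) * x * (v * n1)⁻¹ ∈ (S : Subgroup G) := by
    intro x hx
    have h1 := mul_mem (mul_mem (inv_mem ha) (hyS x hx)) ha
    rw [hyav] at h1
    have e : a⁻¹ * (a * v * (n1 * x * n1⁻¹) * (a * v)⁻¹) * a = (v * n1) * x * (v * n1)⁻¹ := by group
    rwa [e] at h1
  have hvN : v ∈ normalizer (T : Set G) := by
    have : v = a⁻¹ * y := by rw [hyav]; group
    rw [this]
    exact mul_mem (inv_mem (hSN ha)) y.2.2
  refine ⟨v * n1, mul_mem hvN hn1, fun x hx => ?_⟩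
  -- comparison
  obtain ⟨u, hu⟩ : ∃ u, u = w * v⁻¹ := ⟨_, rfl⟩
  have huW : u ∈ W := by rw [hu]; exact mul_mem hw (inv_mem hv)
  obtain ⟨b, hb⟩ : ∃ b, b = (v * n1) * x * (v * n1)⁻¹ := ⟨_, rfl⟩
  have hbS : b ∈ (S : Subgroup G) := by rw [hb]; exact hvS x hx
  have hgb : g * x * g⁻¹ = u * b * u⁻¹ := by
    rw [hg1, hu, hb]; group
  have h1 : b⁻¹ * (u * b * u⁻¹) ∈ (S : Subgroup G) := by
    rw [← hgb]
    exact mul_mem (inv_mem hbS) (hg x hx)
  have h2 : b⁻¹ * (u * b * u⁻¹) ∈ W := by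
    have := mul_mem (hW.conj_mem u huW b⁻¹) (inv_mem huW)
    have e : b⁻¹ * u * b⁻¹⁻¹ * u⁻¹ = b⁻¹ * (u * b * u⁻¹) := by group
    rwa [e] at this
  have h3 : b⁻¹ * (u * b * u⁻¹) = 1 := by
    obtain ⟨k, hk⟩ := S.2 ⟨_, h1⟩
    have hk' : (b⁻¹ * (u * b * u⁻¹)) ^ p ^ k = 1 := congrArg Subtype.val hk
    have h4 : orderOf (b⁻¹ * (u * b * u⁻¹)) ∣ p ^ k := orderOf_dvd_of_pow_eq_one hk'
    have h5 : orderOf (b⁻¹ * (u * b * u⁻¹)) ∣ Nat.card W := by
      have := orderOf_dvd_natCard (⟨_, h2⟩ : W)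
      rwa [← Subgroup.orderOf_coe] at this
    have h6 : Nat.Coprime (p ^ k) (Nat.card W) := Nat.Coprime.pow_left k ((hpf.out.coprime_iff_not_dvd).2 hWp)
    exact orderOf_eq_one_iff.1 (Nat.eq_one_of_dvd_coprimes h6 h4 h5)
  rw [hgb, ← hb]
  exact inv_mul_eq_one.1 h3

end Cfsg.Agent.H760.Str
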