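import Cfsg.Agent.H760.StrMain
import Cfsg.Agent.TwoFusion.FStarControl
/-!
# The main argument, second part (helper760, for S5305)

* `Sit.mem_pCore` : an element centralizing all components is in `O_p(G)`;
* `Cfg.commute_of_coprime`, `Cfg.exists_W` : the `p'`-elements of `D` form a subgroup `W` and `D = W (S ∩ D)`;
* `Cfg.ctl_A` : `N_G(A)` controls strong fusion in `S`.
-/
set_option autoImplicit false

universe u

namespace Cfsg.Agent.H760.Str

open Subgroup Cfsg
open scoped commutatorElement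

variable {G : Type u} [Group G] [Finite G] {p : ℕ} [hpf : Fact p.Prime]

/-- `S ∩ D` is Sylow in `D`, for `D` normal in `H ≥ S`. -/
theorem exists_sylow (S : Sylow p G) {H D : Subgroup G} (hSH : (S : Subgroup G) ≤ H) (hDH : D ≤ H)
    (hDn : ∀ g ∈ H, ∀ d ∈ D, g * d * g⁻¹ ∈ D) :
    ∃ P : Sylow p D, (P : Subgroup D) = (S : Subgroup G).subgroupOf D := by
  have hn : (D.subgroupOf H).Normal := ⟨fun d hd g => hDn g g.2 d hd⟩
  have hSH' : ¬ p ∣ ((S : Subgroup G).subgroupOf H).index := by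
    intro hd
    exact S.not_dvd_index (hd.trans (relIndex_dvd_index_of_le hSH))
  have hp : IsPGroup p ↥((S : Subgroup G).subgroupOf H) := S.2.comap_of_injective H.subtype H.subtype_injective
  have h1 : ¬ p ∣ ((S : Subgroup G).subgroupOf H).relIndex (D.subgroupOf H) :=
    H222.SylowJoin.not_dvd_relIndex_of_subnormal hp hSH' (Normal.isSubnormal hn)
  rw [relIndex_subgroupOf hDH] at h1
  have h2 : IsPGroup p ↥((S : Subgroup G).subgroupOf D) := S.2.comap_of_injective D.subtype D.subtype_injective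
  exact ⟨h2.toSylow h1, rfl⟩

/-- `exists_compl` for a subgroup `D` normal in `H`. -/
theorem compl_of (S : Sylow p G) {H D : Subgroup G} (C : Subgroup G) (hSH : (S : Subgroup G) ≤ H) (hDH : D ≤ H)
    (hDn : ∀ g ∈ H, ∀ d ∈ D, g * d * g⁻¹ ∈ D) (h1 : ∀ x ∈ D, ¬ p ∣ orderOf x → x ∈ C)
    (h2 : ∀ x ∈ D, ¬ p ∣ orderOf x → ∀ s ∈ (S : Subgroup G), s ∈ D → s ∈ C → x * s = s * x) :
    ∃ W : Subgroup G, W ≤ D ∧ (∀ g ∈ H, ∀ w ∈ W, g * w * g⁻¹ ∈ W) ∧ ¬ p ∣ Nat.card W ∧
      (∀ x ∈ D, x ∈ W ↔ ¬ p ∣ orderOf x) ∧ ∀ d ∈ D, ∃ w ∈ W, ∃ s ∈ (S : Subgroup G) ⊓ D, d = w * s := by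
  obtain ⟨P, hP⟩ := exists_sylow S hSH hDH hDn
  have hord : ∀ x : D, orderOf x = orderOf (x : G) := fun x => (Subgroup.orderOf_coe x).symm
  obtain ⟨W, hWn, hWp, hWm, hW⟩ := exists_compl P (C.subgroupOf D) (fun x hx => h1 x x.2 (by rwa [← hord])) (by
    intro x hx y hy
    have hy1 : (y : G) ∈ (S : Subgroup G) := by
      have := hy.1
      rw [hP] at this
      exact this
    exact Subtype.ext (h2 x x.2 (by rwa [← hord]) y hy1 y.2 hy.2))
  have hmem : ∀ x ∈ D, x ∈ W.map D.subtype ↔ ¬ p ∣ orderOf x := by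
    intro x hx
    have e : x ∈ W.map D.subtype ↔ (⟨x, hx⟩ : D) ∈ W := by
      constructor
      · rintro ⟨y, hy, hyx⟩
        have : y = ⟨x, hx⟩ := Subtype.ext hyx
        rwa [← this]
      · intro h
        exact ⟨_, h, rfl⟩
    rw [e, hWm, hord]
  refine ⟨W.map D.subtype, ?_, ?_, ?_, hmem, ?_⟩
  · rintro _ ⟨x, -, rfl⟩
    exact x.2
  · rintro g hg _ ⟨x, hx, rfl⟩
    have hxp := (hWm x).1 hx
    have h3 := hDn g hg x x.2
    rw [show D.subtype x = (x : G) from rfl, hmem _ h3]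
    rw [hord] at hxp
    have : orderOf (g * (x : G) * g⁻¹) = orderOf (x : G) :=
      orderOf_injective (MulAut.conj g).toMonoidHom (MulAut.conj g).injective (x : G)
    rwa [this]
  · rwa [Nat.card_congr (W.equivMapOfInjective D.subtype D.subtype_injective).toEquiv.symm]
  · intro d hd
    obtain ⟨w, hw, s, hs, e⟩ := hW ⟨d, hd⟩
    refine ⟨w, ⟨w, hw, rfl⟩, s, ⟨?_, s.2⟩, congrArg Subtype.val e⟩
    rw [hP] at hs
    exact hs

/-- `ctl_of_mul` relative to a subgroup `H` controlling fusion. -/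
theorem ctl_trans (S : Sylow p G) {Q H D W : Subgroup G} (hQ : Ctl (S : Subgroup G) Q) (hQH : normalizer (Q : Set G) ≤ H)
    (hSH : (S : Subgroup G) ≤ H) (hDH : D ≤ H) (hDn : ∀ g ∈ H, ∀ d ∈ D, g * d * g⁻¹ ∈ D)
    (hWH : W ≤ H) (hWn : ∀ g ∈ H, ∀ w ∈ W, g * w * g⁻¹ ∈ W) (hWp : ¬ p ∣ Nat.card W)
    (hDW : ∀ d ∈ D, ∃ w ∈ W, ∃ s ∈ (S : Subgroup G) ⊓ D, d = w * s) :
    Ctl (S : Subgroup G) ((S : Subgroup G) ⊓ D) := by
  intro B hB g hg
  obtain ⟨n, hn, hnB⟩ := hQ B hB g hg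
  have hnH := hQH hn
  let S' : Sylow p H := S.subtype hSH
  have hS' : (S' : Subgroup H) = (S : Subgroup G).subgroupOf H := rfl
  have h1 : (D.subgroupOf H).Normal := ⟨fun d hd g => hDn g g.2 d hd⟩
  have h2 : (W.subgroupOf H).Normal := ⟨fun d hd g => hWn g g.2 d hd⟩
  have h3 : ¬ p ∣ Nat.card (W.subgroupOf H) := by
    rwa [Nat.card_congr (subgroupOfEquivOfLe hWH).toEquiv]
  have h4 := ctl_of_mul S' h1 h2 h3 (by
    intro d hd
    obtain ⟨w, hw, s, hs, e⟩ := hDW d hd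
    exact ⟨⟨w, hWH hw⟩, hw, ⟨s, hDH hs.2⟩, ⟨hs.1, hs.2⟩, Subtype.ext e⟩)
  obtain ⟨m, hm, hmB⟩ := h4 (B.subgroupOf H) (fun x hx => hB hx) ⟨n, hnH⟩ (by
    intro x hx
    have h5 : n * (x : G) * n⁻¹ = g * x * g⁻¹ := hnB x hx
    show n * (x : G) * n⁻¹ ∈ (S : Subgroup G)
    rw [h5]
    exact hg _ hx)
  refine ⟨m, Transfer.FusionBasic.mem_normalizer_of_conj_mem fun q hq => ?_, fun x hx => ?_⟩
  · exact (mem_normalizer_iff.1 hm ⟨q, hDH hq.2⟩).1 ⟨hq.1, hq.2⟩
  · have h5 := congrArg Subtype.val (hmB ⟨x, hSH (hB hx)⟩ hx)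
    have h6 : (m : G) * x * (m : G)⁻¹ = n * x * n⁻¹ := h5
    rw [h6, hnB x hx]

variable {S : Sylow p G} {A : Subgroup G}

/-- an element centralizing all the components is in `O_p(G)`. -/
theorem Sit.mem_pCore (h : Sit S A) {y : G} (hy : ∀ K : Subgroup G, IsComponent K → y ∈ centralizer (K : Set G)) :
    y ∈ pCore p G := by
  have hF : fittingSubgroup G = pCore p G := SignalizersComponents.BalanceAux.fitting_eq_pCore p h.core_eq_bot
  rw [← hF]
  refine TwoFusion.FStarControl.centralizer_genFitting_le_fitting ?_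
  have h1 : generalizedFittingSubgroup G ≤ centralizer ({y} : Set G) := by
    refine sup_le (sSup_le fun K hK k hk => ?_) ?_
    · rw [mem_centralizer_singleton_iff]
      exact (mem_centralizer_iff.1 (hy K hK)) k hk
    · rw [hF]
      refine h.pCore_le_center.trans fun z hz => ?_
      rw [mem_centralizer_singleton_iff]
      exact ((mem_center_iff.1 hz) y).symm
  rw [mem_centralizer_iff]
  intro z hz
  exact mem_centralizer_singleton_iff.1 (h1 hz)

variable {T : Subgroup G → Prop}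

namespace Cfg

variable (h : Cfg S A T)
include h

/-- the `p'`-elements of `D` commute with `C_{S ∩ D}(Q)`. -/
theorem commute_of_coprime {x s : G} (hx : x ∈ h.DD) (hxp : ¬ p ∣ orderOf x) (hs : s ∈ (S : Subgroup G)) (hsD : s ∈ h.DD)
    (hsQ : s ∈ centralizer (QQ S A T : Set G)) : x * s = s * x := by
  have hxQ := h.centralize_of_coprime hx hxp
  have h1 : x * s * x⁻¹ * s⁻¹ ∈ pCore p G := by
    refine h.sit.mem_pCore fun K hK => ?_
    have hn := h.centralizer_normal hK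
    by_cases hT : T K
    · have hsK : ∀ q ∈ (S : Subgroup G) ⊓ K, s * q = q * s := fun q hq =>
        ((mem_centralizer_iff.1 hsQ) q (BB_le_QQ hK (by rw [BB_pos hT]; exact hq))).symm
      obtain ⟨k, c, hk, hc, rfl⟩ := h.split K hK hT s hs hsK
      have hxk : k * x = x * k := (mem_centralizer_iff.1 hxQ) k (BB_le_QQ hK (by rw [BB_pos hT]; exact hk))
      have e : x * (k * c) * x⁻¹ * (k * c)⁻¹ = k * ((x * c * x⁻¹) * c⁻¹) * k⁻¹ := by
        calc x * (k * c) * x⁻¹ * (k * c)⁻¹ = (x * k) * c * x⁻¹ * c⁻¹ * k⁻¹ := by group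
          _ = (k * x) * c * x⁻¹ * c⁻¹ * k⁻¹ := by rw [hxk]
          _ = k * ((x * c * x⁻¹) * c⁻¹) * k⁻¹ := by group
      rw [e]
      exact hn.conj_mem _ (mul_mem (hn.conj_mem _ hc _) (inv_mem hc)) _
    · obtain ⟨k, hk, hc⟩ := (hx.2 K hK).2 hT
      obtain ⟨k', hk', hc'⟩ := (hsD.2 K hK).2 hT
      have hkk := h.abG K hK hT k hk k' hk'
      -- x = k c, s = k' c'
      set c := k⁻¹ * x with hcdef
      set c' := k'⁻¹ * s with hcdef'
      have ex : x = k * c := by rw [hcdef]; group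
      have es : s = k' * c' := by rw [hcdef']; group
      have c1 : c * k' = k' * c := ((mem_centralizer_iff.1 hc) k' hk'.2).symm
      have c2 : c' * k = k * c' := ((mem_centralizer_iff.1 hc') k hk.2).symm
      have c3 : c' * k' = k' * c' := ((mem_centralizer_iff.1 hc') k' hk'.2).symm
      have c4 : c * k = k * c := ((mem_centralizer_iff.1 hc) k hk.2).symm
      have e : x * s * x⁻¹ * s⁻¹ = c * c' * c⁻¹ * c'⁻¹ := by
        have e1 : x * s = (k' * k) * (c * c') := by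
          rw [ex, es]
          calc k * c * (k' * c') = k * (c * k') * c' := by group
            _ = k * (k' * c) * c' := by rw [c1]
            _ = (k * k') * (c * c') := by group
            _ = (k' * k) * (c * c') := by rw [hkk]
        have e2 : s * x = (k' * k) * (c' * c) := by
          rw [ex, es]
          calc k' * c' * (k * c) = k' * (c' * k) * c := by group
            _ = k' * (k * c') * c := by rw [c2]
            _ = (k' * k) * (c' * c) := by group
        have e3 : x * s * x⁻¹ * s⁻¹ = (x * s) * (s * x)⁻¹ := by group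
        have e4 : c * c' * c⁻¹ * c'⁻¹ ∈ centralizer (K : Set G) :=
          mul_mem (mul_mem (mul_mem hc hc') (inv_mem hc)) (inv_mem hc')
        have e5 : (k' * k) * (c * c' * c⁻¹ * c'⁻¹) * (k' * k)⁻¹ = c * c' * c⁻¹ * c'⁻¹ := by
          have := (mem_centralizer_iff.1 e4) (k' * k) (mul_mem hk'.2 hk.2)
          rw [this]; group
        rw [e3, e1, e2]
        calc (k' * k) * (c * c') * ((k' * k) * (c' * c))⁻¹ = (k' * k) * (c * c' * c⁻¹ * c'⁻¹) * (k' * k)⁻¹ := by group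
          _ = c * c' * c⁻¹ * c'⁻¹ := e5
      rw [e]
      exact mul_mem (mul_mem (mul_mem hc hc') (inv_mem hc)) (inv_mem hc')
  -- `y = [x,s]` is central of `p`-power order, hence trivial
  set y := x * s * x⁻¹ * s⁻¹ with hy
  have hyc : ∀ g : G, g * y = y * g := fun g => (mem_center_iff.1 (h.sit.pCore_le_center h1)) g
  have h2 : x * s * x⁻¹ = y * s := by rw [hy]; group
  have h3 : ∀ n : ℕ, x ^ n * s * (x ^ n)⁻¹ = y ^ n * s := by
    intro n
    induction n with
    | zero => simp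
    | succ n ih =>
      have hyn : x * y ^ n = y ^ n * x := ((show Commute x y from hyc x).pow_right n)
      calc x ^ (n + 1) * s * (x ^ (n + 1))⁻¹ = x * (x ^ n * s * (x ^ n)⁻¹) * x⁻¹ := by rw [pow_succ']; group
        _ = x * (y ^ n * s) * x⁻¹ := by rw [ih]
        _ = (x * y ^ n) * s * x⁻¹ := by group
        _ = y ^ n * (x * s * x⁻¹) := by rw [hyn]; group
        _ = y ^ (n + 1) * s := by rw [h2, pow_succ]; group
  have h4 : y ^ orderOf x = 1 := by
    have := h3 (orderOf x)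
    rw [pow_orderOf_eq_one, one_mul, inv_one, mul_one] at this
    exact (mul_eq_right.1 this.symm)
  obtain ⟨n, hn⟩ := (Lib.Cores.pCore_isPGroup (G := G) p) ⟨y, h1⟩
  have hn' : y ^ p ^ n = 1 := by simpa using congrArg Subtype.val hn
  have h5 : y = 1 := by
    have hc : Nat.Coprime (orderOf x) (p ^ n) := coprime_of_dvd_pow hxp n dvd_rfl
    have := Nat.dvd_gcd (orderOf_dvd_of_pow_eq_one h4) (orderOf_dvd_of_pow_eq_one hn')
    rw [hc.gcd_eq_one, Nat.dvd_one, orderOf_eq_one_iff] at this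
    exact this
  rw [h5, one_mul] at h2
  calc x * s = (x * s * x⁻¹) * x := by group
    _ = s * x := by rw [h2]


/-- the data `W` -/
theorem exists_W : ∃ W : Subgroup G, W ≤ h.DD ∧ (∀ g ∈ normalizer (QQ S A T : Set G), ∀ w ∈ W, g * w * g⁻¹ ∈ W) ∧
    ¬ p ∣ Nat.card W ∧ (∀ x ∈ h.DD, x ∈ W ↔ ¬ p ∣ orderOf x) ∧
    ∀ d ∈ h.DD, ∃ w ∈ W, ∃ s ∈ (S : Subgroup G) ⊓ h.DD, d = w * s :=
  compl_of S (centralizer (QQ S A T : Set G)) h.S_le h.DD_le (fun _ hg _ hd => h.DD_conj hg hd)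
    (fun _ hx hxp => h.centralize_of_coprime hx hxp) (fun _ hx hxp _ hs hsD hsC => h.commute_of_coprime hx hxp hs hsD hsC)

/-- **`N_G(A)` controls strong fusion in `S`.** -/
theorem ctl_A : Ctl (S : Subgroup G) A := by
  obtain ⟨W, hWD, hWn, hWp, -, hDW⟩ := h.exists_W
  have h1 := ctl_trans S (ctl_of_isNormal h.normal_QQ) le_rfl h.S_le h.DD_le (fun _ hg _ hd => h.DD_conj hg hd)
    (hWD.trans h.DD_le) hWn hWp hDW
  intro B hB g hg
  obtain ⟨n, hn, hnB⟩ := h1 B hB g hg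
  refine ⟨n, Transfer.FusionBasic.mem_normalizer_of_conj_mem fun a ha => ?_, hnB⟩
  exact h.sit.closed.2 a ha n ((mem_normalizer_iff.1 hn a).1 ⟨h.sit.closed.1 ha, h.A_le_DD ha⟩).1

end Cfg

end Cfsg.Agent.H760.Str
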