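import Cfsg.Agent.H760.StrCtlA
/-!
# The main argument, third part (helper760, for S5305)

* `inf_sSup` : `S ∩ ⟨𝒦⟩ = ⟨S ∩ K : K ∈ 𝒦⟩` for a set `𝒦` of normal subgroups;
* `Cfg.ctl_S` : if all components satisfy `T` then `N_G(S)` controls strong fusion in `S`.
-/
set_option autoImplicit false

universe u

namespace Cfsg.Agent.H760.Str

open Subgroup Cfsg
open scoped commutatorElement

variable {G : Type u} [Group G] [Finite G] {p : ℕ} [hpf : Fact p.Prime]

theorem inf_sSup (S : Sylow p G) {𝒦 : Set (Subgroup G)} (h : ∀ K ∈ 𝒦, K.Normal) :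
    (S : Subgroup G) ⊓ sSup 𝒦 ≤ sSup {B | ∃ K ∈ 𝒦, B = (S : Subgroup G) ⊓ K} := by
  classical
  have key : ∀ s : Set (Subgroup G), s.Finite → s ⊆ 𝒦 →
      (sSup s).Normal ∧ (S : Subgroup G) ⊓ sSup s ≤ sSup {B | ∃ K ∈ 𝒦, B = (S : Subgroup G) ⊓ K} := by
    intro s hs
    induction s, hs using Set.Finite.induction_on with
    | empty =>
      intro _
      rw [sSup_empty]
      exact ⟨inferInstance, inf_le_right.trans bot_le⟩
    | @insert K s _ _ ih =>
      intro hsub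
      obtain ⟨h1, h2⟩ := ih fun x hx => hsub (Set.mem_insert_of_mem _ hx)
      have h3 : K.Normal := h K (hsub (Set.mem_insert _ _))
      rw [sSup_insert]
      refine ⟨inferInstance, ?_⟩
      rw [H222.SylowJoin.sylow_inf_sup S (Normal.isSubnormal h3) (Normal.isSubnormal h1)]
      exact sup_le (le_sSup ⟨K, hsub (Set.mem_insert _ _), rfl⟩) h2
  exact (key 𝒦 (Set.toFinite _) subset_rfl).2

variable {S : Sylow p G} {A : Subgroup G} {T : Subgroup G → Prop}

namespace Cfg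

variable (h : Cfg S A T)
include h

/-- **`N_G(S)` controls strong fusion in `S`** if `T` holds for all components. -/
theorem ctl_S (hall : ∀ K : Subgroup G, IsComponent K → T K) : Ctl (S : Subgroup G) (S : Subgroup G) := by
  obtain ⟨Q, hQ⟩ : ∃ Q, Q = QQ S A T := ⟨_, rfl⟩
  obtain ⟨H, hH⟩ : ∃ H, H = normalizer (QQ S A T : Set G) := ⟨_, rfl⟩
  obtain ⟨D, hD⟩ : ∃ D, D = h.DD := ⟨_, rfl⟩
  obtain ⟨E, hE⟩ : ∃ E, E = layer G := ⟨_, rfl⟩
  have hSH : (S : Subgroup G) ≤ H := by rw [hH]; exact h.S_le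
  have hDH : D ≤ H := by rw [hD, hH]; exact h.DD_le
  have hDn : ∀ g ∈ H, ∀ d ∈ D, g * d * g⁻¹ ∈ D := by
    rw [hD, hH]; exact fun _ hg _ hd => h.DD_conj hg hd
  have hQS : Q ≤ (S : Subgroup G) := by rw [hQ]; exact h.QQ_le
  have hQH : Q ≤ H := hQS.trans hSH
  have hQn : ∀ g ∈ H, ∀ d ∈ Q, g * d * g⁻¹ ∈ Q := by
    rw [hQ, hH]; exact fun g hg d hd => (mem_normalizer_iff.1 hg d).1 hd
  have hEn : E.Normal := by rw [hE]; exact SignalizersComponents.Components.layer_normal G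
  have hSE : (S : Subgroup G) ⊓ E = Q := by
    refine le_antisymm ?_ (le_inf hQS ?_)
    · rw [hE, hQ]
      refine (inf_sSup S fun K hK => h.sit.comp_normal hK).trans (sSup_le ?_)
      rintro _ ⟨K, hK, rfl⟩
      exact (BB_pos (hall K hK)).ge.trans (BB_le_QQ hK)
    · rw [hE, hQ]
      refine sSup_le ?_
      rintro _ ⟨K, hK, rfl⟩
      exact (BB_le K).trans (le_sSup hK)
  -- `D₂ = D Q`
  obtain ⟨D2, hD2⟩ : ∃ D2, D2 = D ⊔ Q := ⟨_, rfl⟩
  have hD2H : D2 ≤ H := by rw [hD2]; exact sup_le hDH hQH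
  have hD2mem : ∀ x ∈ D2, ∃ d ∈ D, ∃ q ∈ Q, x = d * q := by
    intro x hx
    have hle : Q ≤ normalizer (D : Set G) := fun q hq =>
      Transfer.FusionBasic.mem_normalizer_of_conj_mem fun d hd => hDn q (hQH hq) d hd
    rw [hD2, sup_comm] at hx
    have hx' : x ∈ ((D ⊔ Q : Subgroup G) : Set G) := by rw [sup_comm]; exact hx
    rw [Subgroup.coe_mul_of_right_le_normalizer_left D Q hle] at hx'
    obtain ⟨d, hd, q, hq, rfl⟩ := hx'
    exact ⟨d, hd, q, hq, rfl⟩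
  have hD2n : ∀ g ∈ H, ∀ d ∈ D2, g * d * g⁻¹ ∈ D2 := by
    intro g hg x hx
    obtain ⟨d, hd, q, hq, rfl⟩ := hD2mem x hx
    have e : g * (d * q) * g⁻¹ = (g * d * g⁻¹) * (g * q * g⁻¹) := by group
    rw [e, hD2]
    exact mul_mem_sup (hDn g hg d hd) (hQn g hg q hq)
  -- `E D₂ = G`
  have hED : E ⊔ D2 = ⊤ := by
    refine h.sit.top_of_le ?_ ?_
    · have hFr : ∀ g : G, ∃ a ∈ H, ∃ k ∈ E, g = a * k := by
        intro g
        obtain ⟨a, ha, k, hk, e⟩ := frattini_factor S hEn g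
        refine ⟨a, ?_, k, hk, e⟩
        rw [hSE, hQ] at ha
        rw [hH]
        exact ha
      have hmemED : ∀ x ∈ E ⊔ D2, ∃ e ∈ E, ∃ d ∈ D2, x = e * d := fun x hx => by
        obtain ⟨e, he, d, hd, rfl⟩ := Subgroup.mem_sup_of_normal_left.1 hx
        exact ⟨e, he, d, hd, rfl⟩
      refine ⟨fun x hx g => ?_⟩
      obtain ⟨a, ha, k, hk, rfl⟩ := hFr g
      have h1 : k * x * k⁻¹ ∈ E ⊔ D2 := by
        have hk' : k ∈ E ⊔ D2 := le_sup_left (a := E) hk
        exact mul_mem (mul_mem hk' hx) (inv_mem hk')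
      obtain ⟨e, he, d, hd, h2⟩ := hmemED _ h1
      have e1 : a * k * x * (a * k)⁻¹ = (a * e * a⁻¹) * (a * d * a⁻¹) := by
        calc a * k * x * (a * k)⁻¹ = a * (k * x * k⁻¹) * a⁻¹ := by group
          _ = a * (e * d) * a⁻¹ := by rw [h2]
          _ = (a * e * a⁻¹) * (a * d * a⁻¹) := by group
      rw [e1]
      exact mul_mem_sup (hEn.conj_mem e he a) (hD2n a ha d hd)
    · refine h.A_le_DD.trans ?_
      rw [← hD, hD2]
      exact le_sup_left.trans le_sup_right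
  -- `p ∤ |H ∩ E : Q|`
  have hidx : ¬ p ∣ Q.relIndex (H ⊓ E) := by
    have h1 : ¬ p ∣ (S : Subgroup G).relIndex E :=
      H222.SylowJoin.not_dvd_relIndex_of_subnormal S.2 S.not_dvd_index (Normal.isSubnormal hEn)
    rw [← inf_relIndex_right, hSE] at h1
    have hQE : Q ≤ H ⊓ E := le_inf hQH (by rw [← hSE]; exact inf_le_right)
    have h2 : Q.relIndex (H ⊓ E) * (H ⊓ E).relIndex E = Q.relIndex E := relIndex_mul_relIndex _ _ _ hQE inf_le_right
    intro hd
    exact h1 (hd.trans ⟨_, h2.symm⟩)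
  -- `S ≤ D₂`
  have hSD2 : (S : Subgroup G) ≤ D2 := by
    intro s hs
    have hsE : s ∈ E ⊔ D2 := by rw [hED]; exact mem_top s
    obtain ⟨e, he, d, hd, hed⟩ := Subgroup.mem_sup_of_normal_left.1 hsE
    have heH : e ∈ H := by
      have : e = s * d⁻¹ := by rw [← hed]; group
      rw [this]
      exact mul_mem (hSH hs) (inv_mem (hD2H hd))
    have hn : (D2.subgroupOf H).Normal := ⟨fun d hd g => hD2n g g.2 d hd⟩
    have hnQ : (Q.subgroupOf (H ⊓ E)).Normal := ⟨fun d hd g => hQn g g.2.1 d hd⟩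
    have h1 : e ^ Q.relIndex (H ⊓ E) ∈ Q := by
      have := Subgroup.pow_index_mem (Q.subgroupOf (H ⊓ E)) ⟨e, heH, he⟩
      exact this
    set m := Q.relIndex (H ⊓ E) with hm
    have h2 : (QuotientGroup.mk' (D2.subgroupOf H) ⟨s, hSH hs⟩) = QuotientGroup.mk' (D2.subgroupOf H) ⟨e, heH⟩ := by
      refine QuotientGroup.eq.2 ?_
      show (s : G)⁻¹ * e ∈ D2
      have e3 : s⁻¹ * e = d⁻¹ := by
        rw [← hed]
        group
      rw [e3]
      exact inv_mem hd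
    set sb := QuotientGroup.mk' (D2.subgroupOf H) ⟨s, hSH hs⟩ with hsb
    have h3 : sb ^ m = 1 := by
      rw [h2, ← map_pow]
      refine (QuotientGroup.eq_one_iff _).2 ?_
      show e ^ m ∈ D2
      rw [hD2]
      exact mem_sup_right h1
    obtain ⟨n, hn'⟩ := S.2 ⟨s, hs⟩
    have h4 : sb ^ p ^ n = 1 := by
      rw [hsb, ← map_pow]
      have h6 : s ^ p ^ n = 1 := by simpa using congrArg Subtype.val hn'
      have : (⟨s, hSH hs⟩ : H) ^ p ^ n = 1 := Subtype.ext h6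
      rw [this, map_one]
    have h5 : sb = 1 := by
      have hc : Nat.Coprime m (p ^ n) := coprime_of_dvd_pow hidx n dvd_rfl
      have := Nat.dvd_gcd (orderOf_dvd_of_pow_eq_one h3) (orderOf_dvd_of_pow_eq_one h4)
      rw [hc.gcd_eq_one, Nat.dvd_one, orderOf_eq_one_iff] at this
      exact this
    have h7 : (⟨s, hSH hs⟩ : H) ∈ D2.subgroupOf H := (QuotientGroup.eq_one_iff _).1 h5
    exact h7
  obtain ⟨W, hWD, hWn, hWp, -, hDW⟩ := h.exists_W
  have h1 := ctl_trans S (ctl_of_isNormal h.normal_QQ) (by rw [hH]) hSH hD2H hD2n (hWD.trans (by rw [← hD]; exact hDH))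
    (by rw [hH]; exact hWn) hWp (by
      intro x hx
      obtain ⟨d, hd, q, hq, rfl⟩ := hD2mem x hx
      obtain ⟨w, hw, s, hs, rfl⟩ := hDW d (by rw [← hD]; exact hd)
      refine ⟨w, hw, s * q, ⟨mul_mem hs.1 (hQS hq), ?_⟩, by group⟩
      rw [hD2]
      exact mul_mem_sup (by rw [hD]; exact hs.2) hq)
  rwa [inf_eq_left.2 hSD2] at h1

end Cfg

end Cfsg.Agent.H760.Str
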