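import Cfsg.Agent.H760.StrRow
import Cfsg.Agent.H792.SpNoT
/-!
# Strongly closed subgroups consisting of nongenerators (helper760, for S5305)

* `GenP p G` : a strongly closed subgroup `T ≠ S` of a Sylow `p`-subgroup `S` consists of nongenerators of `S`;
* `GenP.of_one`, `GenP.of_mulEquiv`, `GenP.of_fullP`;
* `genP_of_cube` : nonabelian Sylow subgroups of order `p³` without strongly closed subgroups of order `p²`;
* `genP_of_abelian` : abelian Sylow subgroups, from the conclusion of S5303;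
* `rowA_of` : the row from `NFus` and `GenP`.
-/
set_option autoImplicit false

universe u

namespace Cfsg.Agent.H760.Str

open Subgroup Cfsg Cfsg.Agent.H749 Cfsg.Agent.H792.SpCube Cfsg.Agent.H792.SpTool
open scoped commutatorElement

/-- strongly closed subgroups `T ≠ P` consist of nongenerators -/
def GenP (p : ℕ) (G : Type*) [Group G] : Prop :=
  ∀ (P : Sylow p G) (T : Subgroup G), IsStronglyClosed T (P : Subgroup G) → T ≠ (P : Subgroup G) →
    ∀ X ≤ (P : Subgroup G), X ⊔ T = (P : Subgroup G) → X = (P : Subgroup G)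

variable {p : ℕ} [hp : Fact p.Prime]

omit hp in
theorem GenP.of_full {G : Type*} [Group G] (h : H794.Full p G) : GenP p G := by
  intro P T hT hne X _ hXT
  rcases h P T hT with h1 | h1
  · rw [h1, sup_bot_eq] at hXT; exact hXT
  · exact absurd h1 hne

/-- one Sylow subgroup suffices -/
theorem GenP.of_one {G : Type*} [Group G] [Finite G] (S : Sylow p G)
    (h : ∀ T : Subgroup G, IsStronglyClosed T (S : Subgroup G) → T ≠ (S : Subgroup G) →
      ∀ X ≤ (S : Subgroup G), X ⊔ T = (S : Subgroup G) → X = (S : Subgroup G)) : GenP p G := by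
  intro P T hT hne X hX hXT
  obtain ⟨k, rfl⟩ := MulAction.exists_smul_eq G S P
  have hmapS : (S : Subgroup G) = ((k • S : Sylow p G) : Subgroup G).map (MulAut.conj k⁻¹).toMonoidHom := by
    ext x
    rw [mem_map_conj, inv_inv, mem_smul]
    have e : k⁻¹ * (k * x * k⁻¹) * k = x := by group
    rw [e]
  have hinj : Function.Injective (Subgroup.map (MulAut.conj k⁻¹).toMonoidHom) :=
    Subgroup.map_injective (MulAut.conj k⁻¹).injective
  have h1 := h _ (closed_conj hT) (fun e => hne (hinj (by rw [e]; exact hmapS)))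
    (X.map (MulAut.conj k⁻¹).toMonoidHom) (by rw [hmapS]; exact Subgroup.map_mono hX) (by
      rw [← Subgroup.map_sup, hXT]
      exact hmapS.symm)
  exact hinj (h1.trans hmapS)

theorem GenP.of_mulEquiv {G : Type*} [Group G] {H : Type*} [Group H] [Finite H] (e : G ≃* H)
    (h : GenP p G) : GenP p H := by
  intro P T hT hne X hX hXT
  have hfin : Finite G := Finite.of_equiv H e.symm.toEquiv
  let P' : Sylow p G := P.mapSurjective (f := e.symm.toMonoidHom) e.symm.surjective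
  have hP' : (P' : Subgroup G) = (P : Subgroup H).map e.symm.toMonoidHom := rfl
  have hinj : Function.Injective (Subgroup.map e.symm.toMonoidHom) := Subgroup.map_injective e.symm.injective
  have hcl : IsStronglyClosed (T.map e.symm.toMonoidHom) (P' : Subgroup G) := by
    refine ⟨by rw [hP']; exact Subgroup.map_mono hT.1, ?_⟩
    rintro _ ⟨t, ht, rfl⟩ g hg
    obtain ⟨h', rfl⟩ := e.symm.surjective g
    have h2 : e.symm.toMonoidHom (h' * t * h'⁻¹) = e.symm h' * (e.symm.toMonoidHom t) * (e.symm h')⁻¹ := by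
      show e.symm (h' * t * h'⁻¹) = _
      rw [map_mul, map_mul, map_inv]
      rfl
    rw [← h2] at hg ⊢
    rw [hP'] at hg
    have h3 : h' * t * h'⁻¹ ∈ (P : Subgroup H) := by
      obtain ⟨y, hy, e2⟩ := hg
      rwa [← e.symm.injective e2]
    exact ⟨_, hT.2 t ht h' h3, rfl⟩
  exact hinj (h P' _ hcl (fun e2 => hne (hinj e2)) (X.map e.symm.toMonoidHom) (Subgroup.map_mono hX) (by
    rw [← Subgroup.map_sup, hXT, hP']))

omit hp in
/-- the row -/
theorem rowA_of {G : Type*} [Group G] (hN : H794.NFus p G) (hG : GenP p G) (P : Sylow p G) {T : Subgroup G}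
    (hT : T < (P : Subgroup G)) (hcl : IsStronglyClosed T (P : Subgroup G)) : RowA (P : Subgroup G) T :=
  ⟨hN.isNormal P, fun X hX hXT => hG P T hcl hT.ne X hX hXT⟩

/-- a subgroup of order `p` of a nonabelian Sylow subgroup of order `p³`, normal in it, consists of nongenerators. -/
theorem gen_of_card {G : Type*} [Group G] {P T : Subgroup G} (hP : Nat.card P = p ^ 3) (hT : Nat.card T = p)
    (_hTP : T ≤ P) (hn : ∀ x ∈ P, ∀ t ∈ T, x * t * x⁻¹ ∈ T) (hna : ∃ a ∈ P, ∃ b ∈ P, a * b ≠ b * a) :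
    ∀ X ≤ P, X ⊔ T = P → X = P := by
  intro X hX hXT
  by_contra hne
  have hfin : Finite P := Nat.finite_of_card_ne_zero (by rw [hP]; exact pow_ne_zero 3 hp.out.ne_zero)
  have hPp : IsPGroup p P := IsPGroup.of_card hP
  -- `T` is central
  have hcen : ∀ x ∈ P, ∀ t ∈ T, x * t = t * x := by
    intro x hx t ht
    obtain ⟨n, hn'⟩ := hPp ⟨x, hx⟩
    have hs : ∃ n : ℕ, x ^ p ^ n = 1 := ⟨n, by simpa using congrArg Subtype.val hn'⟩
    exact commute_of_card hT hs (hn x hx) ht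
  -- `X` has order at most `p²`, so it is abelian
  have hXlt : X < P := lt_of_le_of_ne hX hne
  have hdvd : Nat.card X ∣ p ^ 3 := hP ▸ Subgroup.card_dvd_of_le hX
  obtain ⟨n, hn3, hXc⟩ := (Nat.dvd_prime_pow hp.out).1 hdvd
  have hfX : Finite X := Finite.of_injective _ (Subgroup.inclusion_injective hX)
  have hn2 : n ≤ 2 := by
    by_contra hlt
    have : n = 3 := by omega
    rw [this, ← hP] at hXc
    exact hne (Subgroup.eq_of_le_of_card_ge hX hXc.ge)
  have hXcomm : ∀ x ∈ X, ∀ y ∈ X, x * y = y * x := by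
    intro x hx y hy
    interval_cases n
    · rw [pow_zero, Subgroup.card_eq_one] at hXc
      rw [hXc, mem_bot] at hx
      rw [hx, one_mul, mul_one]
    · rw [pow_one] at hXc
      have hcyc : IsCyclic X := isCyclic_of_prime_card hXc
      have := hcyc.isMulCommutative
      exact congrArg Subtype.val (this.is_comm.comm (⟨x, hx⟩ : X) ⟨y, hy⟩)
    · have := (IsPGroup.isMulCommutative_of_card_eq_prime_sq hXc).is_comm.comm (⟨x, hx⟩ : X) ⟨y, hy⟩
      exact congrArg Subtype.val this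
  obtain ⟨a, ha, b, hb, hab⟩ := hna
  have h1 : P ≤ centralizer (X : Set G) := by
    rw [← hXT]
    refine sup_le (fun x hx => mem_centralizer_iff.2 fun y hy => hXcomm y hy x hx) fun t ht => ?_
    exact mem_centralizer_iff.2 fun y hy => hcen y (hX hy) t ht
  have h2 : P ≤ centralizer (P : Set G) := by
    conv_lhs => rw [← hXT]
    refine sup_le (fun x hx => mem_centralizer_iff.2 fun y hy => ?_) fun t ht => ?_
    · exact ((mem_centralizer_iff.1 (h1 hy)) x hx).symm
    · exact mem_centralizer_iff.2 fun y hy => hcen y hy t ht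
  exact hab ((mem_centralizer_iff.1 (h2 hb)) a ha)

/-- **Nonabelian Sylow subgroups of order `p³`.** -/
theorem genP_of_cube {G : Type*} [Group G] [Finite G] (h3 : p ^ 3 ∣ Nat.card G) (h4 : ¬ p ^ 4 ∣ Nat.card G)
    (hna : ∀ S : Sylow p G, ∃ a ∈ (S : Subgroup G), ∃ b ∈ (S : Subgroup G), a * b ≠ b * a)
    (hirr : ∀ (S : Sylow p G) (T : Subgroup G), IsStronglyClosed T (S : Subgroup G) → Nat.card T ≠ p ^ 2) : GenP p G := by
  intro P T hT hne
  have hcard : Nat.card (P : Subgroup G) = p ^ 3 := by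
    obtain ⟨n, hn⟩ := IsPGroup.iff_card.1 P.2
    have h5 : p ^ 3 ∣ Nat.card (P : Subgroup G) := P.pow_dvd_card_of_pow_dvd_card h3
    rw [hn] at h5 ⊢
    have h6 : 3 ≤ n := (Nat.pow_dvd_pow_iff_le_right hp.out.one_lt).1 h5
    have h7 : n < 4 := by
      by_contra hlt
      exact h4 ((pow_dvd_pow p (by omega)).trans (hn ▸ Subgroup.card_subgroup_dvd_card (P : Subgroup G)))
    have : n = 3 := by omega
    rw [this]
  have hdvd : Nat.card T ∣ p ^ 3 := hcard ▸ Subgroup.card_dvd_of_le hT.1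
  obtain ⟨n, hn3, hTc⟩ := (Nat.dvd_prime_pow hp.out).1 hdvd
  have hn2 : n ≠ 2 := fun h => hirr P T hT (by rw [hTc, h])
  have hn3' : n ≠ 3 := by
    intro h
    rw [h, ← hcard] at hTc
    exact hne (Subgroup.eq_of_le_of_card_ge hT.1 hTc.ge)
  have hn1 : n = 0 ∨ n = 1 := by omega
  rcases hn1 with rfl | rfl
  · rw [pow_zero, Subgroup.card_eq_one] at hTc
    intro X _ hXT
    rwa [hTc, sup_bot_eq] at hXT
  · rw [pow_one] at hTc
    refine gen_of_card hcard hTc hT.1 (fun x hx t ht => ?_) (hna P)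
    exact hT.2 t ht x (mul_mem (mul_mem hx (hT.1 ht)) (inv_mem hx))

/-! ### Abelian Sylow subgroups -/

omit hp in
/-- the `p`-th powers are nongenerators -/
theorem le_of_pow {G : Type*} [Group G] {P X : Subgroup G} (hab : ∀ a ∈ P, ∀ b ∈ P, a * b = b * a) {e : ℕ}
    (he : ∀ a ∈ P, a ^ p ^ e = 1) (hX : X ≤ P) (h : ∀ s ∈ P, ∃ x ∈ X, ∃ u ∈ P, s = x * u ^ p) : P ≤ X := by
  have key : ∀ n : ℕ, ∀ s ∈ P, ∃ x ∈ X, ∃ u ∈ P, s = x * u ^ p ^ n := by
    intro n
    induction n with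
    | zero => exact fun s hs => ⟨1, one_mem _, s, hs, by rw [pow_zero, pow_one, one_mul]⟩
    | succ n ih =>
      intro s hs
      obtain ⟨x, hx, u, hu, rfl⟩ := ih s hs
      obtain ⟨y, hy, v, hv, rfl⟩ := h u hu
      refine ⟨x * y ^ p ^ n, mul_mem hx (pow_mem hy _), v, hv, ?_⟩
      have hc : Commute y (v ^ p) := hab y (hX hy) _ (pow_mem hv p)
      rw [hc.mul_pow, ← pow_mul, pow_succ', mul_assoc]
  intro s hs
  obtain ⟨x, hx, u, hu, rfl⟩ := key e s hs
  rw [he u hu, mul_one]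
  exact hx

theorem exists_root {k e : ℕ} (he : 1 ≤ e) (x : Fin k → Multiplicative (ZMod (p ^ e))) (hx : x ^ p ^ (e - 1) = 1) :
    ∃ y, y ^ p = x := by
  have h1 : ∀ i, ∃ b : Multiplicative (ZMod (p ^ e)), b ^ p = x i := by
    intro i
    have h2 : (x i) ^ p ^ (e - 1) = 1 := congrFun hx i
    obtain ⟨a, ha⟩ : ∃ a : ZMod (p ^ e), x i = Multiplicative.ofAdd a := ⟨_, rfl⟩
    rw [ha, ← ofAdd_nsmul] at h2
    have h3 : (p ^ (e - 1)) • a = 0 := h2
    have hne : NeZero (p ^ e) := ⟨pow_ne_zero _ hp.out.ne_zero⟩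
    have h4 : ((p ^ (e - 1) * a.val : ℕ) : ZMod (p ^ e)) = 0 := by
      rw [nsmul_eq_mul] at h3
      push_cast
      push_cast at h3
      rwa [ZMod.natCast_zmod_val]
    rw [ZMod.natCast_eq_zero_iff] at h4
    have h5 : p ∣ a.val := by
      have e1 : p ^ e = p ^ (e - 1) * p := by
        rw [← pow_succ]
        congr 1
        omega
      have h6 : p ^ (e - 1) * p ∣ p ^ (e - 1) * a.val := e1 ▸ h4
      exact (Nat.mul_dvd_mul_iff_left (pow_pos hp.out.pos _)).1 h6
    obtain ⟨b, hb⟩ := h5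
    refine ⟨Multiplicative.ofAdd (b : ZMod (p ^ e)), ?_⟩
    rw [ha, ← ofAdd_nsmul]
    congr 1
    rw [nsmul_eq_mul, ← Nat.cast_mul, ← hb, ZMod.natCast_zmod_val]
  choose y hy using h1
  exact ⟨y, funext hy⟩

/-- **Abelian Sylow subgroups**, from the conclusion of S5303. -/
theorem gen_of_abelian {G : Type*} [Group G] [Finite G] (S : Sylow p G) (hab : IsMulCommutative (S : Subgroup G))
    (hirr : ∀ B : Subgroup G, (∀ b ∈ B, b ∈ (S : Subgroup G) ∧ b ^ p = 1) →
      (∀ n ∈ Subgroup.normalizer ((S : Subgroup G) : Set G), ∀ b ∈ B, n * b * n⁻¹ ∈ B) →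
      B = ⊥ ∨ ∀ x ∈ (S : Subgroup G), x ^ p = 1 → x ∈ B)
    (hhom : ∃ k e : ℕ, Nonempty (↥(S : Subgroup G) ≃* (Fin k → Multiplicative (ZMod (p ^ e)))))
    {T : Subgroup G} (hT : IsStronglyClosed T (S : Subgroup G)) (hne : T ≠ (S : Subgroup G)) :
    ∀ X ≤ (S : Subgroup G), X ⊔ T = (S : Subgroup G) → X = (S : Subgroup G) := by
  obtain ⟨k, e, ⟨φ⟩⟩ := hhom
  have hc : ∀ a ∈ (S : Subgroup G), ∀ b ∈ (S : Subgroup G), a * b = b * a := fun a ha b hb => H795.comm_of hab ha hb
  have hexp : ∀ a ∈ (S : Subgroup G), a ^ p ^ e = 1 := by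
    intro a ha
    have h1 : (φ ⟨a, ha⟩) ^ p ^ e = 1 := by
      funext i
      show (φ ⟨a, ha⟩ i) ^ p ^ e = 1
      obtain ⟨c, hc⟩ : ∃ c : ZMod (p ^ e), φ ⟨a, ha⟩ i = Multiplicative.ofAdd c := ⟨_, rfl⟩
      rw [hc, ← ofAdd_nsmul, nsmul_eq_mul]
      simp
    rw [← map_pow] at h1
    have h2 := (map_eq_one_iff φ φ.injective).1 h1
    exact congrArg Subtype.val h2
  by_cases he : e = 0
  · exfalso
    apply hne
    refine le_antisymm hT.1 fun x hx => ?_
    have := hexp x hx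
    rw [he, pow_zero, pow_one] at this
    rw [this]
    exact one_mem _
  have he1 : 1 ≤ e := by omega
  have hroot : ∀ s ∈ (S : Subgroup G), s ^ p ^ (e - 1) = 1 → ∃ u ∈ (S : Subgroup G), u ^ p = s := by
    intro s hs h1
    have h2 : (φ ⟨s, hs⟩) ^ p ^ (e - 1) = 1 := by
      rw [← map_pow]
      have : (⟨s, hs⟩ : (S : Subgroup G)) ^ p ^ (e - 1) = 1 := Subtype.ext h1
      rw [this, map_one]
    obtain ⟨y, hy⟩ := exists_root he1 _ h2
    refine ⟨φ.symm y, (φ.symm y).2, ?_⟩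
    have h3 : (φ.symm y) ^ p = ⟨s, hs⟩ := by
      apply φ.injective
      rw [map_pow, φ.apply_symm_apply, hy]
    exact congrArg Subtype.val h3
  have hinv : ∀ n ∈ Subgroup.normalizer ((S : Subgroup G) : Set G), ∀ t ∈ T, n * t * n⁻¹ ∈ T := fun n hn t ht =>
    hT.2 t ht n ((mem_normalizer_iff.1 hn t).1 (hT.1 ht))
  have hTab : IsMulCommutative T := H795.isMulCommutative_of fun a ha b hb => hc a (hT.1 ha) b (hT.1 hb)
  have hB : ∀ b ∈ H795.powS (p ^ (e - 1)) T hTab, b ∈ (S : Subgroup G) ∧ b ^ p = 1 := by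
    rintro _ ⟨t, ht, rfl⟩
    refine ⟨pow_mem (hT.1 ht) _, ?_⟩
    rw [← pow_mul, ← pow_succ, show e - 1 + 1 = e by omega]
    exact hexp t (hT.1 ht)
  rcases hirr (H795.powS (p ^ (e - 1)) T hTab) hB (by
    rintro n hn _ ⟨t, ht, rfl⟩
    exact ⟨n * t * n⁻¹, hinv n hn t ht, by rw [conj_pow]⟩) with h1 | h1
  · -- `T ≤ S ^ p`
    intro X hX hXT
    refine le_antisymm hX (le_of_pow hc hexp hX fun s hs => ?_)
    have h2 : s ∈ X ⊔ T := by rw [hXT]; exact hs
    have hle : T ≤ normalizer (X : Set G) := fun t ht =>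
      Transfer.FusionBasic.mem_normalizer_of_conj_mem fun x hx => by
        rw [hc t (hT.1 ht) x (hX hx), mul_inv_cancel_right]; exact hx
    have h3 : s ∈ ((X ⊔ T : Subgroup G) : Set G) := h2
    rw [Subgroup.coe_mul_of_right_le_normalizer_left X T hle] at h3
    obtain ⟨x, hx, t, ht, rfl⟩ := h3
    have h4 : t ^ p ^ (e - 1) = 1 := by
      have : t ^ p ^ (e - 1) ∈ H795.powS (p ^ (e - 1)) T hTab := ⟨t, ht, rfl⟩
      rw [h1, mem_bot] at this
      exact this
    obtain ⟨u, hu, rfl⟩ := hroot t (hT.1 ht) h4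
    exact ⟨x, hx, u, hu, rfl⟩
  · exfalso
    apply hne
    refine le_antisymm hT.1 (le_of_pow hc hexp hT.1 fun s hs => ?_)
    obtain ⟨t, ht, hts⟩ := h1 (s ^ p ^ (e - 1)) (pow_mem hs _) (by
      rw [← pow_mul, ← pow_succ, show e - 1 + 1 = e by omega]
      exact hexp s hs)
    have h2 : (t⁻¹ * s) ^ p ^ (e - 1) = 1 := by
      rw [(show Commute t⁻¹ s from hc _ (inv_mem (hT.1 ht)) s hs).mul_pow, inv_pow, hts, inv_mul_cancel]
    obtain ⟨u, hu, hus⟩ := hroot _ (mul_mem (inv_mem (hT.1 ht)) hs) h2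
    exact ⟨t, ht, u, hu, by rw [hus]; group⟩

end Cfsg.Agent.H760.Str
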