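import Cfsg.Agent.H760.StrOdd
import Cfsg.Agent.H760.StrGen
import Cfsg.Agent.H760.StrRee
import Cfsg.Agent.H760.StrU3
import Cfsg.Agent.H792.FF
import Cfsg.Agent.H794.DefAb
import Cfsg.Agent.H792.Sp.JThreeTop
import Cfsg.Agent.H181.OctPerf
import Cfsg.Agent.H181.OctNoTwo
/-!
# The rows for S5305 (helper760)

* `AbHyp` : the part of S5303 needed (irreducibility and homocyclicity);
* `good_of_known` : `p` odd, `G` a known nonabelian simple group: `FullP p G`, or `NFus p G` and `GenP p G`, or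
  `G ≅ G₂(q)`, `p = 3`, `9 ∣ q² - 1`;
* `rowFF_three`, `rowF_of_ne` : the row hypotheses.
-/
set_option autoImplicit false
set_option linter.unusedSectionVars false

universe u

namespace Cfsg.Agent.H760.Str

open Subgroup Cfsg Cfsg.Agent.H749 Cfsg.Agent.H792 Cfsg.Agent.H792.FF

/-- the statement of S5303 for `G`, `p` -/
def AbHyp (p : ℕ) (G : Type*) [Group G] : Prop :=
  ∀ S : Sylow p G, (S : Subgroup G) ≠ ⊥ → IsMulCommutative (S : Subgroup G) → ∀ Ω : Subgroup G,
    (∀ x : G, x ∈ Ω ↔ x ∈ (S : Subgroup G) ∧ x ^ p = 1) →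
    (∀ B : Subgroup G, B ≤ Ω → (∀ n ∈ Subgroup.normalizer ((S : Subgroup G) : Set G), ∀ b ∈ B, n * b * n⁻¹ ∈ B) →
      B = ⊥ ∨ B = Ω) ∧
    (∃ n ∈ Subgroup.normalizer ((S : Subgroup G) : Set G), ∃ x ∈ Ω, n * x * n⁻¹ ≠ x) ∧
    ∃ k e : ℕ, Nonempty (↥(S : Subgroup G) ≃* (Fin k → Multiplicative (ZMod (p ^ e))))

section
variable {p : ℕ} [hp : Fact p.Prime] {G : Type u} [Group G] [Finite G]

/-- `FullP`, or `NFus` and `GenP` -/
def Good (p : ℕ) (G : Type*) [Group G] : Prop := FullP p G ∨ (H794.NFus p G ∧ GenP p G)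

theorem comm_smul {S P : Sylow p G} (h : IsMulCommutative (S : Subgroup G)) : IsMulCommutative (P : Subgroup G) := by
  obtain ⟨g, hg⟩ := MulAction.exists_smul_eq G S P
  refine ⟨⟨fun a b => Subtype.ext ?_⟩⟩
  obtain ⟨a, ha⟩ := a
  obtain ⟨b, hb⟩ := b
  rw [← hg, Sylow.coe_subgroup_smul] at ha hb
  obtain ⟨a', ha', rfl⟩ := ha
  obtain ⟨b', hb', rfl⟩ := hb
  have h1 : a' * b' = b' * a' := H795.comm_of h ha' hb'
  show (g * a' * g⁻¹) * (g * b' * g⁻¹) = (g * b' * g⁻¹) * (g * a' * g⁻¹)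
  calc (g * a' * g⁻¹) * (g * b' * g⁻¹) = g * (a' * b') * g⁻¹ := by group
    _ = g * (b' * a') * g⁻¹ := by rw [h1]
    _ = _ := by group

theorem genP_of_abHyp (h : AbHyp p G) (hab : ∀ S : Sylow p G, IsMulCommutative (S : Subgroup G)) : GenP p G := by
  intro P T hT hne
  by_cases hP : (P : Subgroup G) = ⊥
  · exact absurd (le_antisymm hT.1 (by rw [hP]; exact bot_le)) hne
  obtain ⟨h1, -, h2⟩ := h P hP (hab P) (H795.om p (P : Subgroup G) (hab P)) (fun x => H795.mem_om)
  refine gen_of_abelian P (hab P) (fun B hB hn => ?_) h2 hT hne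
  rcases h1 B (fun b hb => H795.mem_om.2 (hB b hb)) hn with h3 | h3
  · exact Or.inl h3
  · exact Or.inr fun x hx hx1 => by rw [h3]; exact H795.mem_om.2 ⟨hx, hx1⟩

theorem good_of_ab (h : AbHyp p G) (hab : ∀ S : Sylow p G, IsMulCommutative (S : Subgroup G)) : Good p G :=
  Or.inr ⟨H794.NFus.of_comm hab, genP_of_abHyp h hab⟩

theorem good_of_dich (h : AbHyp p G) (hd : Dich p G) : Good p G := by
  rcases hd with h1 | h1
  · exact Or.inl h1
  · exact good_of_ab h fun S => ⟨⟨fun a b => Subtype.ext (h1 S S.isPGroup' a a.2 b b.2)⟩⟩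

theorem good_of_char [IsSimpleGroup G] (hp2 : p ≠ 2) (hna : ¬ IsMulCommutative G) (h : IsLieTypeChar p G) : Good p G := by
  rcases H794.DefAb.def_row hp2 hna h with h | ⟨h, ⟨F, _, _, _, q, hF, -, ⟨e⟩⟩ | ⟨rfl, h'⟩⟩
  · exact Or.inl (SpTool.fullP_of_full h)
  · exact Or.inr ⟨H794.NFus.of_ti h, (StrU3.genP_psu hp2 hF).of_mulEquiv e.symm⟩
  · exact Or.inr ⟨H794.NFus.of_ti h, StrRee.genP_ree h'⟩

/-- Sylow subgroups of order `p³`. -/
theorem good_of_cube (h : AbHyp p G) (h3 : p ^ 3 ∣ Nat.card G) (h4 : ¬ p ^ 4 ∣ Nat.card G)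
    (hn : FullP p G ∨ H794.NFus p G)
    (hirr : (∀ S : Sylow p G, ∃ a ∈ (S : Subgroup G), ∃ b ∈ (S : Subgroup G), a * b ≠ b * a) →
      ∀ (S : Sylow p G) (T : Subgroup G), IsStronglyClosed T (S : Subgroup G) → Nat.card T ≠ p ^ 2) : Good p G := by
  rcases hn with hn | hn
  · exact Or.inl hn
  by_cases hna : ∀ S : Sylow p G, ∃ a ∈ (S : Subgroup G), ∃ b ∈ (S : Subgroup G), a * b ≠ b * a
  · exact Or.inr ⟨hn, genP_of_cube h3 h4 hna (hirr hna)⟩
  · push Not at hna
    obtain ⟨S, hS⟩ := hna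
    exact good_of_ab h fun P => comm_smul (S := S) (H795.isMulCommutative_of hS)

theorem cube_dvd (S : Sylow p G) (h : Nat.card (S : Subgroup G) = p ^ 3) : p ^ 3 ∣ Nat.card G ∧ ¬ p ^ 4 ∣ Nat.card G := by
  refine ⟨h ▸ Subgroup.card_subgroup_dvd_card (S : Subgroup G), fun h4 => ?_⟩
  have h5 := S.pow_dvd_card_of_pow_dvd_card h4
  rw [h] at h5
  have h6 := (Nat.pow_dvd_pow_iff_le_right hp.out.one_lt).1 h5
  omega

/-- the Monster, `p = 13` -/
theorem good_m_thirteen [Fact (Nat.Prime 13)] {G : Type u} [Group G] [Finite G] (h : AbHyp 13 G) (hG : Spor.IsoM G)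
    (hn : FullP 13 G ∨ H794.NFus 13 G) : Good 13 G := by
  have hfin := MFive.Row.finite_model
  obtain ⟨f⟩ := hG
  obtain ⟨f'⟩ := Cfsg.Agent.MonsterP.Equiv.equiv
  have e := (f.trans f').symm
  obtain ⟨x, z, Q, hH⟩ := H794.MonThirteen.hyp_model
  rcases hn with hn | hn
  · exact Or.inl hn
  by_cases hna : ∀ S : Sylow 13 ↥MonsterX.InstData.M.G, ∃ a ∈ (S : Subgroup ↥MonsterX.InstData.M.G), ∃ b ∈ (S : Subgroup ↥MonsterX.InstData.M.G), a * b ≠ b * a
  · exact Or.inr ⟨hn, (genP_of_cube hH.h3 hH.h4 hna fun S T hT => hH.ne_sq S (hna S) T hT).of_mulEquiv e⟩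
  · push Not at hna
    obtain ⟨S, hS⟩ := hna
    let S' : Sylow 13 G := S.mapSurjective (f := e.toMonoidHom) e.surjective
    refine good_of_ab h fun P => comm_smul (S := S') (H795.isMulCommutative_of ?_)
    rintro _ ⟨a, ha, rfl⟩ _ ⟨b, hb, rfl⟩
    rw [← map_mul, hS a ha b hb, map_mul]

theorem good_sporadic (h : AbHyp p G) (hG : IsSporadicGroup G) (hp2 : p ≠ 2) : Good p G := by
  rcases SpAll.spor_rows_odd hG hp2 with h1 | ⟨hc, h1⟩ | ⟨rfl, h1, h2⟩ | h1
  · exact Or.inl h1
  · rcases hc with ⟨rfl, h'⟩ | ⟨rfl, h' | h' | h' | h'⟩ | ⟨rfl, h'⟩ | ⟨rfl, h'⟩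
    · exact good_of_cube h (by rw [NotCT.Orders.j2 h']; norm_num) (by rw [NotCT.Orders.j2 h']; norm_num) h1
        fun _ => SpCube.noT_j2_three h'
    · exact good_of_cube h (by rw [NotCT.Orders.co2 h']; norm_num) (by rw [NotCT.Orders.co2 h']; norm_num) h1
        fun _ => SpU35.noT_co2_five h'
    · exact good_of_cube h (by rw [NotCT.Orders.co3 h']; norm_num) (by rw [NotCT.Orders.co3 h']; norm_num) h1
        fun _ => SpU35.noT_co3_five h'
    · exact good_of_cube h (by rw [NotCT.Orders.hs h']; norm_num) (by rw [NotCT.Orders.hs h']; norm_num) h1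
        fun _ => SpU35.noT_hs_five h'
    · exact good_of_cube h (by rw [NotCT.Orders.mcl h']; norm_num) (by rw [NotCT.Orders.mcl h']; norm_num) h1
        fun _ => SpU35.noT_mcl_five h'
    · exact good_of_cube h (by rw [NotCT.Orders.j4 h']; norm_num) (by rw [NotCT.Orders.j4 h']; norm_num) h1
        fun _ => H845.JFourEleven.noT_j4_eleven h'
    · exact good_m_thirteen h h' h1
  · refine Or.inr ⟨h2, fun P T hT hne X hX hXT => ?_⟩
    have h3 : T ≤ (frattini (P : Subgroup G)).map (P : Subgroup G).subtype := by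
      by_contra hle
      exact hne (SpJ3.j3_top h1 P T hT.1 (fun n hn t ht => hT.2 t ht n ((mem_normalizer_iff.1 hn t).1 (hT.1 ht))) hle)
    have h4 : X.subgroupOf (P : Subgroup G) ⊔ frattini (P : Subgroup G) = ⊤ := by
      rw [eq_top_iff]
      intro x _
      have h5 : (x : G) ∈ X ⊔ T := by rw [hXT]; exact x.2
      have h6 : X ⊔ T ≤ (X.subgroupOf (P : Subgroup G) ⊔ frattini (P : Subgroup G)).map (P : Subgroup G).subtype := by
        refine sup_le (fun y hy => ⟨⟨y, hX hy⟩, mem_sup_left hy, rfl⟩) (h3.trans (Subgroup.map_mono le_sup_right))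
      obtain ⟨y, hy, e⟩ := h6 h5
      have : y = x := Subtype.ext e
      rwa [← this]
    have h5 := frattini_nongenerating h4
    refine le_antisymm hX fun x hx => ?_
    have h6 : (⟨x, hx⟩ : (P : Subgroup G)) ∈ X.subgroupOf (P : Subgroup G) := by rw [h5]; exact mem_top _
    exact h6
  · exact good_of_ab h h1

theorem good_tits (h : AbHyp p G) (hG : Lie.IsoTits G) (hp2 : p ≠ 2) : Good p G := by
  rcases SpAll.row_tits hp2 hG with h1 | ⟨hc, h1⟩ | ⟨rfl, h1, h2⟩ | h1
  · exact Or.inl h1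
  · -- impossible cases are covered by the order
    have ho := NotCT.Orders.tits hG
    rcases hc with ⟨rfl, h'⟩ | ⟨rfl, h' | h' | h' | h'⟩ | ⟨rfl, h'⟩ | ⟨rfl, h'⟩
    · have := NotCT.Orders.j2 h'; rw [ho] at this; norm_num at this
    · have := NotCT.Orders.co2 h'; rw [ho] at this; norm_num at this
    · have := NotCT.Orders.co3 h'; rw [ho] at this; norm_num at this
    · have := NotCT.Orders.hs h'; rw [ho] at this; norm_num at this
    · have := NotCT.Orders.mcl h'; rw [ho] at this; norm_num at this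
    · have := NotCT.Orders.j4 h'; rw [ho] at this; norm_num at this
    · have := NotCT.Orders.m h'; rw [ho] at this; norm_num at this
  · have := NotCT.Orders.j3 h1; rw [NotCT.Orders.tits hG] at this; norm_num at this
  · exact good_of_ab h h1

theorem good_exc [IsSimpleGroup G] (hA : AbHyp p G) (hp2 : p ≠ 2) (hna : ¬ IsMulCommutative G) (h : IsExceptionalLieType G)
    (hR : H629.ExcFinal.RestFive p G → FullP p G) : Good p G ∨ GTwo p G := by
  by_cases hp3 : p = 3
  · subst hp3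
    rcases H629.ExcFinal.exc_three h with h | h | h | h
    · exact Or.inl (Or.inl h)
    · exact Or.inl (good_of_char hp2 hna (isLieTypeChar_of_excChar h))
    · exact Or.inl (Or.inl (SpTool.fullP_of_card fun h9 =>
        Omega.EH3.Rank1.not_three_dvd h ((by norm_num : (3 : ℕ) ∣ 3 ^ 2).trans h9)))
    · rcases h with ⟨F, h3, h, ⟨e⟩⟩ | ⟨K, q, hq, hK, h, ⟨e⟩⟩ | h | h | h
      · obtain ⟨f⟩ := H638.G2Iso.equiv (F := F)
        have h30 : (3 : F) ≠ 0 := H629.ExcFinal.ne_zero_of_not_dvd h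
        rcases H181.OctHerm.row h30 (e.trans f.symm) with ⟨h9, -⟩ | ⟨h9, h'⟩
        · exact Or.inr ⟨rfl, F, inferInstance, inferInstance, h30, h9, ⟨e.trans f.symm⟩⟩
        · left
          have hno := H181.OctHerm.noTwo h30 h9 (e.trans f.symm)
          obtain ⟨S0⟩ : Nonempty (Sylow 3 G) := inferInstance
          have hc := cube_dvd S0 (by rw [H181.OctHerm.card_sylow_27 h30 (e.trans f.symm) S0 h9]; norm_num)
          exact good_of_cube hA hc.1 hc.2 (Or.inr h') fun _ S T hT =>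
            hno S T hT.1 fun n hn t ht => hT.2 t ht n ((mem_normalizer_iff.1 hn t).1 (hT.1 ht))
      · have h30 : (3 : K) ≠ 0 := by
          refine H629.ExcFinal.ne_zero_of_not_dvd fun hd => h ?_
          rw [hK] at hd
          exact Nat.prime_three.dvd_of_dvd_pow hd
        exact Or.inl (Or.inl ((H790.TriMain.fullP_twD4 h30 hq hK).of_mulEquiv e.symm))
      · exact Or.inl (good_of_char hp2 hna (by unfold IsLieTypeChar; tauto))
      · exact Or.inl (Or.inl (H760.TwFFull.fullP_twF4_three h))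
      · exact Or.inl (good_tits hA h hp2)
  · left
    have h5 : 5 ≤ p := by
      have h2 := hp.out.two_le
      have h4 : p ≠ 4 := by
        rintro rfl
        exact absurd hp.out (by norm_num)
      omega
    rcases H629.ExcFinal.exc_five h h5 with h | h | h | h
    · exact good_of_ab hA fun S => ⟨⟨fun a b => Subtype.ext (h S S.isPGroup' a a.2 b b.2)⟩⟩
    · exact good_of_char hp2 hna (isLieTypeChar_of_excChar h)
    · exact Or.inl h
    · exact Or.inl (hR h)

/-- **The rows, `p` odd.** -/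
theorem good_of_known [IsSimpleGroup G] (hp2 : p ≠ 2) (hna : ¬ IsMulCommutative G) (hK : IsKnownSimple' G)
    (hA : AbHyp p G) (hR : H629.ExcFinal.RestFive p G → FullP p G) : Good p G ∨ GTwo p G := by
  rcases hK with h | h | h | h | h | h | h | h | h | h
  · have hf : Fact (Nat.card G).Prime := ⟨h⟩
    have hc : IsCyclic G := isCyclic_of_prime_card rfl
    exact absurd (IsCyclic.isMulCommutative (α := G)) hna
  · exact Or.inl (Or.inl (SpTool.fullP_of_full (H794.full_alt hp2 h)))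
  · rcases row_classical hp2 (Or.inl h) with h | h
    · exact Or.inl (good_of_char hp2 hna h)
    · exact Or.inl (good_of_dich hA h)
  · rcases row_classical hp2 (Or.inr (Or.inl h)) with h | h
    · exact Or.inl (good_of_char hp2 hna h)
    · exact Or.inl (good_of_dich hA h)
  · rcases row_classical hp2 (Or.inr (Or.inr (Or.inl h))) with h | h
    · exact Or.inl (good_of_char hp2 hna h)
    · exact Or.inl (good_of_dich hA h)
  · rcases row_classical hp2 (Or.inr (Or.inr (Or.inr (Or.inl h)))) with h | h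
    · exact Or.inl (good_of_char hp2 hna h)
    · exact Or.inl (good_of_dich hA h)
  · rcases row_classical hp2 (Or.inr (Or.inr (Or.inr (Or.inr (Or.inl h))))) with h | h
    · exact Or.inl (good_of_char hp2 hna h)
    · exact Or.inl (good_of_dich hA h)
  · rcases row_classical hp2 (Or.inr (Or.inr (Or.inr (Or.inr (Or.inr h))))) with h | h
    · exact Or.inl (good_of_char hp2 hna h)
    · exact Or.inl (good_of_dich hA h)
  · exact good_exc hA hp2 hna h hR
  · exact Or.inl (good_sporadic hA h hp2)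

end

/-- The row hypothesis for odd primes. -/
theorem rowFF {p : ℕ} [hp : Fact p.Prime] (hp2 : p ≠ 2)
    (hK : ∀ (L : Type u) [Group L] [Finite L] [IsSimpleGroup L], IsKnownSimple' L)
    (hA : ∀ (L : Type u) [Group L] [Finite L] [IsSimpleGroup L], ¬ IsMulCommutative L → AbHyp p L)
    (hR : ∀ (L : Type u) [Group L] [Finite L] [IsSimpleGroup L], H629.ExcFinal.RestFive p L → FullP p L) :
    RowFF.{u} p := by
  intro L _ _ _ hna P T hT hTP hcl
  rcases good_of_known hp2 hna (hK L) (hA L hna) (hR L) with (h | ⟨h1, h2⟩) | ⟨rfl, F, _, _, h3, h9, ⟨e⟩⟩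
  · rcases SpTool.full_of_fullP h P T hcl with h | h
    · exact absurd h hT
    · exact absurd h hTP.ne
  · exact Or.inl (rowA_of h1 h2 P hTP hcl)
  · rcases H181.OctHerm.row h3 e with ⟨-, h⟩ | ⟨h, -⟩
    · rcases h P T hcl with h | h | h
      · exact absurd h hT
      · exact absurd h hTP.ne
      · obtain ⟨J, hJ, hPJ, hJc⟩ := H181.OctHerm.perfect_over h3 h9 e P
        exact Or.inr ⟨h.1, h.2, J, hJ, hPJ, by rw [h.1]; exact hJc⟩
    · exact absurd h9 h

/-- The row hypothesis for `p ≥ 5`. -/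
theorem rowF {p : ℕ} [hp : Fact p.Prime] (hp2 : p ≠ 2) (hp3 : p ≠ 3)
    (hK : ∀ (L : Type u) [Group L] [Finite L] [IsSimpleGroup L], IsKnownSimple' L)
    (hA : ∀ (L : Type u) [Group L] [Finite L] [IsSimpleGroup L], ¬ IsMulCommutative L → AbHyp p L)
    (hR : ∀ (L : Type u) [Group L] [Finite L] [IsSimpleGroup L], H629.ExcFinal.RestFive p L → FullP p L) :
    RowF.{u} p := by
  intro L _ _ _ hna P T hT hTP hcl
  rcases good_of_known hp2 hna (hK L) (hA L hna) (hR L) with (h | ⟨h1, h2⟩) | ⟨rfl, -⟩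
  · rcases SpTool.full_of_fullP h P T hcl with h | h
    · exact absurd h hT
    · exact absurd h hTP.ne
  · exact rowA_of h1 h2 P hTP hcl
  · exact absurd rfl hp3

end Cfsg.Agent.H760.Str
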