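import Cfsg.Agent.H760.Str2
import Cfsg.Agent.H760.StrRows
/-!
# S5305 from its ingredients (helper760)
-/
set_option autoImplicit false

universe u

namespace Cfsg.Agent.H760.Str

open Subgroup Cfsg Cfsg.Agent.H749 Cfsg.Agent.H792.MinClosed

/-- **S5305** from the classification, S1252, S1937, S1938, S5303 and the row `E₈(q)`, `p = 5`. -/
theorem main {p : ℕ} [hp : Fact p.Prime] (hK : ∀ (L : Type u) [Group L] [Finite L] [IsSimpleGroup L], IsKnownSimple' L)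
    (h2 : ∀ (H : Type u) [Group H] [Finite H], ConclTwo H)
    (hI : p ≠ 2 → InnerHyp.{u} p) (hZ : ZStarHyp.{u} p)
    (hA : ∀ (L : Type u) [Group L] [Finite L] [IsSimpleGroup L], ¬ IsMulCommutative L → AbHyp p L)
    (hR : ∀ (L : Type u) [Group L] [Finite L] [IsSimpleGroup L], H629.ExcFinal.RestFive p L → FullP p L)
    {G : Type u} [Group G] [Finite G] (S : Sylow p G) (A : Subgroup G) (hsc : Cfsg.IsStronglyClosed A (S : Subgroup G))
    (hgen : Subgroup.normalClosure (A : Set G) = ⊤) (N : Subgroup G) [N.Normal] (hN : ¬ p ∣ (A ⊓ N).relIndex N)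
    (hNmax : ∀ M : Subgroup G, M.Normal → ¬ p ∣ (A ⊓ M).relIndex M → M ≤ N) :
    (∀ (B : Set (G ⧸ N)) (g : (G ⧸ N)), B ⊆ (((S : Subgroup G).map (QuotientGroup.mk' N)) : Set (G ⧸ N)) → (∀ b ∈ B, g * b * g⁻¹ ∈ ((S : Subgroup G).map (QuotientGroup.mk' N))) →
        ∃ x ∈ Subgroup.normalizer (((A.map (QuotientGroup.mk' N)) : Subgroup (G ⧸ N)) : Set (G ⧸ N)), ∀ b ∈ B, x * b * x⁻¹ = g * b * g⁻¹) ∧
    (p ≠ 3 → (∀ (B : Set (G ⧸ N)) (g : (G ⧸ N)), B ⊆ (((S : Subgroup G).map (QuotientGroup.mk' N)) : Set (G ⧸ N)) → (∀ b ∈ B, g * b * g⁻¹ ∈ ((S : Subgroup G).map (QuotientGroup.mk' N))) →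
        ∃ x ∈ Subgroup.normalizer ((((S : Subgroup G).map (QuotientGroup.mk' N)) : Subgroup (G ⧸ N)) : Set (G ⧸ N)), ∀ b ∈ B, x * b * x⁻¹ = g * b * g⁻¹)) := by
  by_cases hp2 : p = 2
  · subst hp2
    have hrow : RowTwo.{u} := by
      intro L _ _ _ hL
      rcases H794.TwoClosed.two_row hL (h2 L) with h | h
      · exact Or.inl h
      · exact Or.inr (H794.NFus.of_ti h)
    exact concl_of_sit (fun H _ _ P D h => h.ctl_two_A (h2 H) hrow) (fun _ H _ _ P D h => h.ctl_two (h2 H) hrow)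
      S A hsc hgen N hN hNmax
  · refine concl_of_sit (fun H _ _ P D h => h.ctl_A (hI hp2) hZ (rowFF hp2 hK hA hR))
      (fun hp3 H _ _ P D h => h.ctl_S (hI hp2) hZ (rowF hp2 hp3 hK hA hR)) S A hsc hgen N hN hNmax

end Cfsg.Agent.H760.Str
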