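import Cfsg.Agent.H760.StrNil
import Cfsg.Agent.S0026
/-!
# The main argument (helper760, for S5305)

`Cfg S A T` : the situation `Sit S A`, with the components `K` of two types: `T K`: `S ∩ K` is normal in `F_S(G)` and `A ∩ K`
consists of nongenerators of `S ∩ K`; `¬ T K`: `A ≤ (A ∩ K) C_G(K)`, `A ∩ K` abelian and normal in `F_S(G)`.

* `Cfg.ctl_A` : `N_G(A)` controls strong fusion in `S`;
* `Cfg.ctl_S` : if `T K` for all components then `N_G(S)` controls strong fusion in `S`.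
-/
set_option autoImplicit false

universe u

namespace Cfsg.Agent.H760.Str

open Subgroup Cfsg
open scoped commutatorElement

variable {G : Type u} [Group G] [Finite G] {p : ℕ} [hpf : Fact p.Prime]

/-- the hypotheses of the main argument -/
structure Cfg (S : Sylow p G) (A : Subgroup G) (T : Subgroup G → Prop) : Prop where
  sit : Sit S A
  split : ∀ K : Subgroup G, IsComponent K → T K → ∀ s ∈ (S : Subgroup G), (∀ q ∈ (S : Subgroup G) ⊓ K, s * q = q * s) →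
    ∃ k c : G, k ∈ (S : Subgroup G) ⊓ K ∧ c ∈ centralizer (K : Set G) ∧ s = k * c
  normN : ∀ K : Subgroup G, IsComponent K → T K → (groupFusionSystem (S : Subgroup G)).IsNormal ((S : Subgroup G) ⊓ K)
  gen : ∀ K : Subgroup G, IsComponent K → T K → ∀ X : Subgroup G, X ≤ (S : Subgroup G) ⊓ K →
    X ⊔ (A ⊓ K) = (S : Subgroup G) ⊓ K → X = (S : Subgroup G) ⊓ K
  normG : ∀ K : Subgroup G, IsComponent K → ¬ T K → (groupFusionSystem (S : Subgroup G)).IsNormal (A ⊓ K)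
  abG : ∀ K : Subgroup G, IsComponent K → ¬ T K → ∀ x ∈ A ⊓ K, ∀ y ∈ A ⊓ K, x * y = y * x
  facG : ∀ K : Subgroup G, IsComponent K → ¬ T K → ∀ a ∈ A, ∃ k ∈ A ⊓ K, k⁻¹ * a ∈ centralizer (K : Set G)

open Classical in
/-- `S ∩ K` or `A ∩ K` -/
noncomputable def BB (S : Sylow p G) (A : Subgroup G) (T : Subgroup G → Prop) (K : Subgroup G) : Subgroup G :=
  if T K then (S : Subgroup G) ⊓ K else A ⊓ K

/-- the product of the subgroups `BB K` -/
noncomputable def QQ (S : Sylow p G) (A : Subgroup G) (T : Subgroup G → Prop) : Subgroup G :=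
  sSup {B | ∃ K : Subgroup G, IsComponent K ∧ B = BB S A T K}

variable {S : Sylow p G} {A : Subgroup G} {T : Subgroup G → Prop}

omit [Finite G] hpf in
theorem BB_pos {K : Subgroup G} (h : T K) : BB S A T K = (S : Subgroup G) ⊓ K := if_pos h

omit [Finite G] hpf in
theorem BB_neg {K : Subgroup G} (h : ¬ T K) : BB S A T K = A ⊓ K := if_neg h

omit [Finite G] hpf in
theorem BB_le_QQ {K : Subgroup G} (hK : IsComponent K) : BB S A T K ≤ QQ S A T := le_sSup ⟨K, hK, rfl⟩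

omit [Finite G] hpf in
theorem BB_le (K : Subgroup G) : BB S A T K ≤ K := by
  by_cases h : T K
  · rw [BB_pos h]; exact inf_le_right
  · rw [BB_neg h]; exact inf_le_right

namespace Cfg

variable (h : Cfg S A T)
include h

omit hpf in
theorem normal_QQ : (groupFusionSystem (S : Subgroup G)).IsNormal (QQ S A T) := by
  refine H792.isNormal_sSup ?_
  rintro _ ⟨K, hK, rfl⟩
  by_cases hT : T K
  · rw [BB_pos hT]; exact h.normN K hK hT
  · rw [BB_neg hT]; exact h.normG K hK hT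

omit hpf in
theorem QQ_le : QQ S A T ≤ (S : Subgroup G) := h.normal_QQ.1

omit [Finite G] hpf in
theorem BB_le_S (K : Subgroup G) : BB S A T K ≤ (S : Subgroup G) := by
  by_cases hT : T K
  · rw [BB_pos hT]; exact inf_le_left
  · rw [BB_neg hT]; exact inf_le_left.trans h.sit.closed.1

theorem conj_BB {K : Subgroup G} (hK : IsComponent K) {g : G} (hg : g ∈ normalizer (QQ S A T : Set G)) {x : G}
    (hx : x ∈ BB S A T K) : g * x * g⁻¹ ∈ BB S A T K := by
  have h1 : g * x * g⁻¹ ∈ (S : Subgroup G) := h.QQ_le ((mem_normalizer_iff.1 hg x).1 (BB_le_QQ hK hx))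
  have h2 : g * x * g⁻¹ ∈ K := (h.sit.comp_normal hK).conj_mem x (BB_le K hx) g
  by_cases hT : T K
  · rw [BB_pos hT]; exact ⟨h1, h2⟩
  · rw [BB_neg hT] at hx ⊢
    exact ⟨h.sit.closed.2 x hx.1 g h1, h2⟩

theorem conj_SK {K : Subgroup G} (hK : IsComponent K) (hT : T K) {g : G} (hg : g ∈ normalizer (QQ S A T : Set G)) {x : G}
    (hx : x ∈ (S : Subgroup G) ⊓ K) : g * x * g⁻¹ ∈ (S : Subgroup G) ⊓ K := by
  have := h.conj_BB hK hg (x := x) (by rw [BB_pos hT]; exact hx)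
  rwa [BB_pos hT] at this

theorem conj_AK {K : Subgroup G} (hK : IsComponent K) {g : G} (hg : g ∈ normalizer (QQ S A T : Set G)) {x : G}
    (hx : x ∈ A ⊓ K) : g * x * g⁻¹ ∈ A ⊓ K := by
  by_cases hT : T K
  · have h1 := h.conj_SK hK hT hg (x := x) ⟨h.sit.closed.1 hx.1, hx.2⟩
    exact ⟨h.sit.closed.2 x hx.1 g h1.1, h1.2⟩
  · have := h.conj_BB hK hg (x := x) (by rw [BB_neg hT]; exact hx)
    rwa [BB_neg hT] at this

theorem centralizer_normal {K : Subgroup G} (hK : IsComponent K) : (centralizer (K : Set G)).Normal := by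
  have := h.sit.comp_normal hK
  infer_instance

/-- the subgroup `D` -/
def DD : Subgroup G where
  carrier := {g | g ∈ normalizer (QQ S A T : Set G) ∧ ∀ K : Subgroup G, IsComponent K →
    (T K → ∀ s ∈ (S : Subgroup G) ⊓ K, g * s * g⁻¹ * s⁻¹ ∈ A) ∧
    (¬ T K → ∃ k ∈ A ⊓ K, k⁻¹ * g ∈ centralizer (K : Set G))}
  one_mem' := by
    refine ⟨one_mem _, fun K _ => ⟨fun _ s _ => ?_, fun _ => ⟨1, one_mem _, ?_⟩⟩⟩
    · rw [one_mul, inv_one, mul_one, mul_inv_cancel]; exact one_mem _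
    · rw [inv_one, one_mul]; exact one_mem _
  mul_mem' := by
    rintro d d' ⟨hd, h1⟩ ⟨hd', h2⟩
    refine ⟨(normalizer (QQ S A T : Set G)).mul_mem hd hd', fun K hK => ⟨fun hT s hs => ?_, fun hT => ?_⟩⟩
    · have e : d * d' * s * (d * d')⁻¹ * s⁻¹ = d * (d' * s * d'⁻¹ * s⁻¹) * d⁻¹ * (d * s * d⁻¹ * s⁻¹) := by group
      rw [e]
      refine A.mul_mem ?_ ((h1 K hK).1 hT s hs)
      have h3 : d' * s * d'⁻¹ * s⁻¹ ∈ (S : Subgroup G) ⊓ K :=
        mul_mem (h.conj_SK hK hT hd' hs) (inv_mem hs)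
      exact (h.conj_AK hK hd ⟨(h2 K hK).1 hT s hs, h3.2⟩).1
    · obtain ⟨k, hk, hc⟩ := (h1 K hK).2 hT
      obtain ⟨k', hk', hc'⟩ := (h2 K hK).2 hT
      refine ⟨k * k', mul_mem hk hk', ?_⟩
      have e : (k * k')⁻¹ * (d * d') = k'⁻¹ * (k⁻¹ * d) * k'⁻¹⁻¹ * (k'⁻¹ * d') := by group
      rw [e]
      exact mul_mem ((h.centralizer_normal hK).conj_mem _ hc _) hc'
  inv_mem' := by
    rintro d ⟨hd, h1⟩
    refine ⟨(normalizer (QQ S A T : Set G)).inv_mem hd, fun K hK => ⟨fun hT s hs => ?_, fun hT => ?_⟩⟩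
    · have hs' : d⁻¹ * s * d⁻¹⁻¹ ∈ (S : Subgroup G) ⊓ K := h.conj_SK hK hT (inv_mem hd) hs
      have h2 := A.inv_mem ((h1 K hK).1 hT _ hs')
      have e : (d * (d⁻¹ * s * d⁻¹⁻¹) * d⁻¹ * (d⁻¹ * s * d⁻¹⁻¹)⁻¹)⁻¹ = d⁻¹ * s * d⁻¹⁻¹ * s⁻¹ := by group
      rwa [e] at h2
    · obtain ⟨k, hk, hc⟩ := (h1 K hK).2 hT
      refine ⟨k⁻¹, inv_mem hk, ?_⟩
      have e : k⁻¹⁻¹ * d⁻¹ = k * (k⁻¹ * d)⁻¹ * k⁻¹ := by group
      rw [e]
      exact (h.centralizer_normal hK).conj_mem _ (inv_mem hc) _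

theorem mem_DD {g : G} : g ∈ h.DD ↔ g ∈ normalizer (QQ S A T : Set G) ∧ ∀ K : Subgroup G, IsComponent K →
    (T K → ∀ s ∈ (S : Subgroup G) ⊓ K, g * s * g⁻¹ * s⁻¹ ∈ A) ∧
    (¬ T K → ∃ k ∈ A ⊓ K, k⁻¹ * g ∈ centralizer (K : Set G)) := Iff.rfl

theorem DD_le : h.DD ≤ normalizer (QQ S A T : Set G) := fun _ hg => hg.1

theorem DD_conj {g : G} (hg : g ∈ normalizer (QQ S A T : Set G)) {d : G} (hd : d ∈ h.DD) : g * d * g⁻¹ ∈ h.DD := by
  rw [mem_DD] at hd ⊢
  obtain ⟨hd0, h1⟩ := hd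
  refine ⟨mul_mem (mul_mem hg hd0) (inv_mem hg), fun K hK => ⟨fun hT s hs => ?_, fun hT => ?_⟩⟩
  · have hs' : g⁻¹ * s * g⁻¹⁻¹ ∈ (S : Subgroup G) ⊓ K := h.conj_SK hK hT (inv_mem hg) hs
    have h2 := (h1 K hK).1 hT _ hs'
    have h3 : d * (g⁻¹ * s * g⁻¹⁻¹) * d⁻¹ * (g⁻¹ * s * g⁻¹⁻¹)⁻¹ ∈ (S : Subgroup G) ⊓ K :=
      mul_mem (h.conj_SK hK hT hd0 hs') (inv_mem hs')
    have h4 := (h.conj_AK hK hg ⟨h2, h3.2⟩).1
    have e : g * (d * (g⁻¹ * s * g⁻¹⁻¹) * d⁻¹ * (g⁻¹ * s * g⁻¹⁻¹)⁻¹) * g⁻¹ = g * d * g⁻¹ * s * (g * d * g⁻¹)⁻¹ * s⁻¹ := by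
      group
    rwa [e] at h4
  · obtain ⟨k, hk, hc⟩ := (h1 K hK).2 hT
    refine ⟨g * k * g⁻¹, h.conj_AK hK hg hk, ?_⟩
    have e : (g * k * g⁻¹)⁻¹ * (g * d * g⁻¹) = g * (k⁻¹ * d) * g⁻¹ := by group
    rw [e]
    exact (h.centralizer_normal hK).conj_mem _ hc _

omit hpf in
theorem S_le : (S : Subgroup G) ≤ normalizer (QQ S A T : Set G) := by
  intro s hs
  have hc := isStronglyClosed_of_isNormal h.normal_QQ
  exact H280.StrongZJ.le_normalizer_of_stronglyClosed hc hs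

theorem A_le_DD : A ≤ h.DD := by
  intro a ha
  refine ⟨h.S_le (h.sit.closed.1 ha), fun K hK => ⟨fun _ s hs => ?_, fun hT => h.facG K hK hT a ha⟩⟩
  have h1 := h.sit.closed.2 a⁻¹ (A.inv_mem ha) s (mul_mem (mul_mem hs.1 (h.sit.closed.1 (A.inv_mem ha))) (inv_mem hs.1))
  have h2 := A.mul_mem ha h1
  have e : a * (s * a⁻¹ * s⁻¹) = a * s * a⁻¹ * s⁻¹ := by group
  rwa [e] at h2

/-- `p'`-elements of `D` centralize `Q`. -/
theorem centralize_of_coprime {x : G} (hx : x ∈ h.DD) (hxp : ¬ p ∣ orderOf x) :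
    x ∈ centralizer (QQ S A T : Set G) := by
  have key : QQ S A T ≤ centralizer ({x} : Set G) := by
    refine sSup_le ?_
    rintro _ ⟨K, hK, rfl⟩
    by_cases hT : T K
    · rw [BB_pos hT]
      -- coprime action
      have hn : zpowers x ≤ normalizer (((S : Subgroup G) ⊓ K : Subgroup G) : Set G) := by
        rw [zpowers_le]
        exact Transfer.FusionBasic.mem_normalizer_of_conj_mem fun s hs => h.conj_SK hK hT hx.1 hs
      have hPp : IsPGroup p ↥((S : Subgroup G) ⊓ K) := S.2.to_le inf_le_left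
      have hcop : (Nat.card (zpowers x)).Coprime (Nat.card ↥((S : Subgroup G) ⊓ K)) := by
        obtain ⟨n, hn⟩ := IsPGroup.iff_card.1 hPp
        rw [hn, Nat.card_zpowers]
        exact coprime_of_dvd_pow hxp n dvd_rfl
      have h1 := Cfsg.Agent.S0026.result (zpowers x) ((S : Subgroup G) ⊓ K) hn hcop (Or.inl inferInstance)
      have h2 : ⁅(S : Subgroup G) ⊓ K, zpowers x⁆ ≤ A ⊓ K := by
        rw [commutator_comm, commutator_le]
        intro y hy s hs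
        have hyD : y ∈ h.DD := (zpowers_le.2 hx) hy
        exact ⟨(hyD.2 K hK).1 hT s hs, (mul_mem (h.conj_SK hK hT hyD.1 hs) (inv_mem hs) :
          y * s * y⁻¹ * s⁻¹ ∈ (S : Subgroup G) ⊓ K).2⟩
      have h3 : ((S : Subgroup G) ⊓ K ⊓ centralizer (zpowers x : Set G)) ⊔ (A ⊓ K) = (S : Subgroup G) ⊓ K := by
        refine le_antisymm (sup_le inf_le_left (inf_le_inf_right _ h.sit.closed.1)) ?_
        conv_lhs => rw [← h1]
        exact sup_le (h2.trans le_sup_right) le_sup_left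
      have h4 := h.gen K hK hT _ inf_le_left h3
      intro s hs
      rw [← h4] at hs
      rw [mem_centralizer_singleton_iff]
      exact ((mem_centralizer_iff.1 hs.2) x (mem_zpowers x)).symm
    · rw [BB_neg hT]
      intro y hy
      obtain ⟨k, hk, hc⟩ := (hx.2 K hK).2 hT
      rw [mem_centralizer_singleton_iff]
      have h1 := (mem_centralizer_iff.1 hc) y hy.2
      have h2 := h.abG K hK hT k hk y hy
      calc y * x = (y * k) * (k⁻¹ * x) := by group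
        _ = (k * y) * (k⁻¹ * x) := by rw [h2]
        _ = k * (y * (k⁻¹ * x)) := by group
        _ = k * (k⁻¹ * x * y) := by rw [h1]
        _ = x * y := by group
  rw [mem_centralizer_iff]
  intro y hy
  exact mem_centralizer_singleton_iff.1 (key hy)

end Cfg

end Cfsg.Agent.H760.Str
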