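import Cfsg.Agent.H792.MinClosed
import Cfsg.Agent.H792.WeakNormal
import Cfsg.Agent.H802.FusGroup
/-!
# Strongly closed subgroups generating `G`, `O_A(G) = 1` (helper760, for S5305)

`Sit p S A` : `A` is strongly closed in the Sylow `p`-subgroup `S`, `G = ⟨A^G⟩`, and no normal subgroup `M ≠ 1` of `G` has
`A ∩ M` as Sylow `p`-subgroup.

* `Sit.core_eq_bot` : `O_{p'}(G) = 1`;
* `Sit.inf_pCore`, `Sit.pCore_le_center` : `A ∩ O_p(G) = 1`, `O_p(G) ≤ Z(G)`;
* `Sit.comp_not_le` : `S ∩ K ≰ A` for a component `K`;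
* `Sit.comp_normal` : the components are normal in `G`.
-/
set_option autoImplicit false

universe u

namespace Cfsg.Agent.H760.Str

open Subgroup Cfsg Cfsg.Agent.H792.MinClosed
open scoped commutatorElement

variable {G : Type u} [Group G] [Finite G] {p : ℕ} [hpf : Fact p.Prime]

/-- `A` strongly closed in `S`, `G = ⟨A^G⟩` and `O_A(G) = 1`. -/
structure Sit (S : Sylow p G) (A : Subgroup G) : Prop where
  closed : IsStronglyClosed A (S : Subgroup G)
  gen : normalClosure (A : Set G) = ⊤
  max : ∀ M : Subgroup G, M.Normal → ¬ p ∣ (A ⊓ M).relIndex M → M = ⊥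

variable {S : Sylow p G} {A : Subgroup G}

omit hpf [Finite G] in
theorem Sit.top_of_le (h : Sit S A) {N : Subgroup G} (hN : N.Normal) (hA : A ≤ N) : N = ⊤ :=
  top_le_iff.1 (h.gen ▸ normalClosure_le_normal hA)

theorem Sit.core_eq_bot (h : Sit S A) : pPrimeCore p G = ⊥ := by
  refine h.max _ inferInstance fun hd => ?_
  have h1 : (A ⊓ pPrimeCore p G).relIndex (pPrimeCore p G) ∣ Nat.card (pPrimeCore p G) := relIndex_dvd_card _ _
  have h2 : Nat.Coprime (Nat.card (pPrimeCore p G)) p := Lib.Cores.pPrimeCore_coprime p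
  exact ((Nat.Prime.coprime_iff_not_dvd hpf.out).1 h2.symm) (hd.trans h1)

theorem Sit.normal_le (h : Sit S A) {M : Subgroup G} (hM : M.Normal) (hMA : (S : Subgroup G) ⊓ M ≤ A) : M = ⊥ := by
  refine h.max _ hM fun hd => ?_
  have h3 : A ⊓ M = (S : Subgroup G) ⊓ M :=
    le_antisymm (inf_le_inf_right _ h.closed.1) (le_inf hMA inf_le_right)
  rw [h3, inf_relIndex_right] at hd
  exact H222.SylowJoin.not_dvd_relIndex_of_subnormal S.2 S.not_dvd_index (Normal.isSubnormal hM) hd

theorem Sit.inf_pCore (h : Sit S A) : A ⊓ pCore p G = ⊥ := by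
  have h2 : (pCore p G ⊓ A).Normal :=
    H280.StrongZJ.inf_normal_of_stronglyClosed h.closed inferInstance (Lib.Cores.pCore_le_sylow S)
  rw [inf_comm]
  exact h.normal_le h2 (inf_le_right.trans inf_le_right)

theorem Sit.inf_normal_p (h : Sit S A) {M : Subgroup G} (hM : M.Normal) (hMp : IsPGroup p M) : A ⊓ M = ⊥ := by
  rw [eq_bot_iff, ← h.inf_pCore]
  exact inf_le_inf_left _ (Lib.Cores.le_pCore hM hMp)

theorem Sit.pCore_le_center (h : Sit S A) : pCore p G ≤ center G := by
  have hc : (centralizer (pCore p G : Set G)).Normal := by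
    have : (pCore p G).Normal := inferInstance
    infer_instance
  have h1 : centralizer (pCore p G : Set G) = ⊤ := h.top_of_le hc fun a ha => by
    rw [mem_centralizer_iff]
    intro o ho
    exact (commute_pCore h.closed h.inf_pCore ha ho).symm
  intro x hx
  rw [mem_center_iff]
  intro g
  have hg : g ∈ centralizer (pCore p G : Set G) := by rw [h1]; exact mem_top g
  exact ((mem_centralizer_iff.1 hg) x hx).symm

theorem Sit.comp_not_le (h : Sit S A) {K : Subgroup G} (hK : IsComponent K) : ¬ (S : Subgroup G) ⊓ K ≤ A := by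
  intro hKA
  obtain ⟨N, hN, hSN, hle⟩ := exists_normal_join S h.closed
  have h1 := h.normal_le hN hSN
  have h2 : K ≤ ⊥ := by rw [← h1]; exact hle K hK.1 hKA
  have hQK : ¬ p ∣ (S : Subgroup G).relIndex K := H222.SylowJoin.not_dvd_relIndex_of_subnormal S.2 S.not_dvd_index hK.1
  refine SignalizersComponents.PCompCore.not_le_centralizer_of_component h.core_eq_bot hK S hQK ?_
  rw [le_bot_iff.1 h2, inf_bot_eq]
  exact bot_le

/-- `A` normalizes every component. -/
theorem Sit.conj_comp (h : Sit S A) {K : Subgroup G} (hK : IsComponent K) {a : G} (ha : a ∈ A) :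
    K.map (MulAut.conj a).toMonoidHom = K := by
  by_contra hne
  have hK' := SignalizersComponents.Components.isComponent_conj a hK
  have h1 : ⁅K.map (MulAut.conj a).toMonoidHom, K⁆ = ⊥ :=
    SignalizersComponents.Components.component_commutator_eq_bot_of_ne hK' hK hne
  refine h.comp_not_le hK (le_of_proj_eq hK S h.closed fun s hs => ?_)
  -- `s⁻¹ ↦ s⁻¹ · (a s a⁻¹) ∈ A`
  refine ⟨hs, a * s⁻¹ * a⁻¹, ?_, ?_⟩
  · exact (commutator_eq_bot_iff_le_centralizer.1 h1) ⟨s⁻¹, K.inv_mem hs.2, rfl⟩
  · have h2 : s * a * s⁻¹ ∈ A :=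
      h.closed.2 a ha s (mul_mem (mul_mem hs.1 (h.closed.1 ha)) (inv_mem hs.1))
    have h3 := A.mul_mem h2 (A.inv_mem ha)
    have e : s * (a * s⁻¹ * a⁻¹) = s * a * s⁻¹ * a⁻¹ := by group
    rwa [e]

/-- The components are normal in `G`. -/
theorem Sit.comp_normal (h : Sit S A) {K : Subgroup G} (hK : IsComponent K) : K.Normal := by
  let N : Subgroup G :=
    { carrier := {g | ∀ L : Subgroup G, IsComponent L → L.map (MulAut.conj g).toMonoidHom = L}
      one_mem' := fun L _ => by
        ext x
        simp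
      mul_mem' := fun {a b} ha hb L hL => by
        have e : (MulAut.conj (a * b)).toMonoidHom = ((MulAut.conj a).toMonoidHom).comp (MulAut.conj b).toMonoidHom := by
          ext x
          simp
        rw [e, ← Subgroup.map_map, hb L hL, ha L hL]
      inv_mem' := fun {a} ha L hL => by
        have h1 := ha L hL
        conv_lhs => rw [← h1]
        rw [Subgroup.map_map]
        have e : ((MulAut.conj a⁻¹).toMonoidHom).comp (MulAut.conj a).toMonoidHom = MonoidHom.id G := by
          ext x
          show a⁻¹ * (a * x * a⁻¹) * a⁻¹⁻¹ = x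
          group
        rw [e, Subgroup.map_id] }
  have hN : N.Normal := ⟨fun n hn g L hL => by
    have hL' := SignalizersComponents.Components.isComponent_conj g⁻¹ hL
    have h1 := hn _ hL'
    have e : (MulAut.conj (g * n * g⁻¹)).toMonoidHom = ((MulAut.conj g).toMonoidHom).comp
        (((MulAut.conj n).toMonoidHom).comp (MulAut.conj g⁻¹).toMonoidHom) := by
      ext x
      simp [mul_assoc]
    rw [e, ← Subgroup.map_map, ← Subgroup.map_map, h1, Subgroup.map_map]
    have e2 : ((MulAut.conj g).toMonoidHom).comp (MulAut.conj g⁻¹).toMonoidHom = MonoidHom.id G := by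
      ext x
      show g * (g⁻¹ * x * g⁻¹⁻¹) * g⁻¹ = x
      group
    rw [e2, Subgroup.map_id]⟩
  have htop : N = ⊤ := h.top_of_le hN fun a ha L hL => h.conj_comp hL ha
  refine ⟨fun n hn g => ?_⟩
  have hg : g ∈ N := by rw [htop]; exact mem_top g
  rw [← hg K hK]
  exact ⟨n, hn, rfl⟩

end Cfsg.Agent.H760.Str
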