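import Cfsg.Agent.H760.StrCtl
/-!
# A normal `p`-complement (helper760, for S5305)

`exists_compl` : if the `p'`-elements of `D` lie in the normal subgroup `C` and centralize `P ∩ C`, `P` a Sylow `p`-subgroup of
`D`, then they form a normal subgroup `W` and `D = W P`.
-/
set_option autoImplicit false

universe u

namespace Cfsg.Agent.H760.Str

open Subgroup Cfsg
open scoped commutatorElement

variable {G : Type u} [Group G] [Finite G] {p : ℕ} [hpf : Fact p.Prime]

omit [Finite G] in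
theorem coprime_of_dvd_pow {a b : ℕ} (ha : ¬ p ∣ a) (k : ℕ) (hb : b ∣ p ^ k) : Nat.Coprime a b :=
  Nat.Coprime.coprime_dvd_right hb (Nat.Coprime.pow_right k ((hpf.out.coprime_iff_not_dvd.2 ha).symm))

theorem exists_compl (P : Sylow p G) (C : Subgroup G) (h1 : ∀ x : G, ¬ p ∣ orderOf x → x ∈ C)
    (h2 : ∀ x : G, ¬ p ∣ orderOf x → ∀ y ∈ (P : Subgroup G) ⊓ C, x * y = y * x) :
    ∃ W : Subgroup G, W.Normal ∧ ¬ p ∣ Nat.card W ∧ (∀ x, x ∈ W ↔ ¬ p ∣ orderOf x) ∧
      ∀ d : G, ∃ w ∈ W, ∃ s ∈ (P : Subgroup G), d = w * s := by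
  classical
  obtain ⟨E, hE⟩ : ∃ E : Subgroup G, E = normalClosure {x | ¬ p ∣ orderOf x} := ⟨_, rfl⟩
  have hmemE : ∀ x : G, ¬ p ∣ orderOf x → x ∈ E := fun x hx => by rw [hE]; exact subset_normalClosure hx
  have hordc : ∀ x g : G, orderOf (g * x * g⁻¹) = orderOf x := fun x g =>
    orderOf_injective (MulAut.conj g).toMonoidHom (MulAut.conj g).injective x
  have hEn : E.Normal := by rw [hE]; exact normalClosure_normal
  have hconj : Group.conjugatesOfSet {x : G | ¬ p ∣ orderOf x} ⊆ {x | ¬ p ∣ orderOf x} := by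
    intro x hx
    obtain ⟨y, hy, hxy⟩ := Group.mem_conjugatesOfSet_iff.1 hx
    obtain ⟨g, rfl⟩ := isConj_iff.1 hxy
    show ¬ p ∣ orderOf (g * y * g⁻¹)
    rw [hordc]
    exact hy
  have hEcl : E ≤ centralizer (((P : Subgroup G) ⊓ C : Subgroup G) : Set G) := by
    rw [hE]
    show Subgroup.closure _ ≤ _
    rw [closure_le]
    intro x hx
    rw [SetLike.mem_coe, mem_centralizer_iff]
    intro y hy
    exact (h2 x (hconj hx) y hy).symm
  have hEC : E ≤ C := by
    rw [hE]
    show Subgroup.closure _ ≤ _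
    rw [closure_le]
    intro x hx
    exact h1 x (hconj hx)
  -- the Sylow subgroup of `E`
  have hPEp : IsPGroup p ↥((P : Subgroup G).subgroupOf E) := P.2.comap_of_injective E.subtype E.subtype_injective
  have hPEi : ¬ p ∣ ((P : Subgroup G).subgroupOf E).index :=
    H222.SylowJoin.not_dvd_relIndex_of_subnormal P.2 P.not_dvd_index (Normal.isSubnormal hEn)
  let PE : Sylow p E := hPEp.toSylow hPEi
  have hPE : (PE : Subgroup E) = (P : Subgroup G).subgroupOf E := rfl
  have hNC : normalizer ((PE : Subgroup E) : Set E) ≤ centralizer ((PE : Subgroup E) : Set E) := by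
    intro e _
    rw [mem_centralizer_iff]
    intro y hy
    have hyP : (y : G) ∈ (P : Subgroup G) ⊓ C := ⟨hy, hEC y.2⟩
    exact Subtype.ext ((mem_centralizer_iff.1 (hEcl e.2)) y hyP)
  have hcompl := MonoidHom.ker_transferSylow_isComplement' PE hNC
  obtain ⟨τ, hτ⟩ : ∃ τ, τ = MonoidHom.transferSylow PE hNC := ⟨_, rfl⟩
  rw [← hτ] at hcompl
  let W : Subgroup G := τ.ker.map E.subtype
  have hcW : Nat.card W = (PE : Subgroup E).index := by
    rw [Nat.card_congr (τ.ker.equivMapOfInjective E.subtype E.subtype_injective).toEquiv.symm]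
    have h3 := hcompl.card_mul_card
    have h4 := (PE : Subgroup E).card_mul_index
    rw [← h3, mul_comm] at h4
    exact (Nat.eq_of_mul_eq_mul_right Nat.card_pos h4).symm
  have hWp : ¬ p ∣ Nat.card W := by rw [hcW]; exact PE.not_dvd_index
  have hmemW : ∀ x, x ∈ W ↔ ¬ p ∣ orderOf x := by
    intro x
    constructor
    · intro hx hd
      have h3 : orderOf x ∣ Nat.card W := by
        have := orderOf_dvd_natCard (⟨x, hx⟩ : W)
        rwa [← Subgroup.orderOf_coe] at this
      exact hWp (hd.trans h3)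
    · intro hx
      refine ⟨⟨x, hmemE x hx⟩, ?_, rfl⟩
      show τ _ = 1
      obtain ⟨k, hk⟩ := PE.2 (τ ⟨x, hmemE x hx⟩)
      have h3 : orderOf (τ ⟨x, hmemE x hx⟩) ∣ p ^ k := orderOf_dvd_of_pow_eq_one hk
      have h4 : orderOf (τ ⟨x, hmemE x hx⟩) ∣ orderOf x := by
        have h5 := orderOf_map_dvd τ (⟨x, hmemE x hx⟩ : E)
        have h6 : orderOf (⟨x, hmemE x hx⟩ : E) = orderOf x := (Subgroup.orderOf_coe _).symm
        rwa [h6] at h5
      exact orderOf_eq_one_iff.1 (Nat.eq_one_of_dvd_coprimes (coprime_of_dvd_pow hx k dvd_rfl) h4 h3)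
  have hWn : W.Normal := ⟨fun x hx g => by
    rw [hmemW] at hx ⊢
    rwa [hordc]⟩
  refine ⟨W, hWn, hWp, hmemW, fun d => ?_⟩
  -- the index of `W` is a power of `p`
  have hcard0 : Nat.card G ≠ 0 := Nat.card_pos.ne'
  obtain ⟨k, m, hm, e⟩ := Nat.exists_eq_pow_mul_and_not_dvd hcard0 p hpf.out.ne_one
  have hpow : ∀ x : G, x ^ p ^ k ∈ W := by
    intro x
    rw [hmemW]
    intro hd
    have h3 : orderOf (x ^ p ^ k) ∣ m := by
      apply orderOf_dvd_of_pow_eq_one
      rw [← pow_mul, ← e, pow_card_eq_one']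
    exact hm (hd.trans h3)
  have hquot : IsPGroup p (G ⧸ W) := by
    intro x
    obtain ⟨y, rfl⟩ := QuotientGroup.mk'_surjective W x
    exact ⟨k, by rw [← map_pow]; exact (QuotientGroup.eq_one_iff _).2 (hpow y)⟩
  obtain ⟨n, hn⟩ := IsPGroup.iff_card.1 hquot
  have hidx : (W ⊔ (P : Subgroup G)).index = 1 := by
    have h3 : (W ⊔ (P : Subgroup G)).index ∣ p ^ n := by
      rw [← hn]
      exact index_dvd_of_le le_sup_left
    have h4 : (W ⊔ (P : Subgroup G)).index ∣ (P : Subgroup G).index := index_dvd_of_le le_sup_right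
    exact Nat.eq_one_of_dvd_coprimes (coprime_of_dvd_pow P.not_dvd_index n dvd_rfl) h4 h3
  have h5 : d ∈ W ⊔ (P : Subgroup G) := by rw [index_eq_one.1 hidx]; exact mem_top d
  have h6 : d ∈ ((W ⊔ (P : Subgroup G) : Subgroup G) : Set G) := h5
  rw [Subgroup.normal_mul] at h6
  obtain ⟨w, hw, s, hs, rfl⟩ := h6
  exact ⟨w, hw, s, hs, rfl⟩

end Cfsg.Agent.H760.Str
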