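import Cfsg.Agent.H760.StrCtlS
import Cfsg.Agent.H629.PIndex
import Cfsg.Prelude.Def_IsolatedElements
/-!
# The components of `G` in the situation `Sit S A` (helper760, for S5305)

`InnerHyp p` is S1937, `ZStarHyp p` is S1938, `RowFF p` the row hypothesis.

* `Sit.inf_comp_ne_bot` : `A ∩ K ≠ 1` for the components `K`;
* `Sit.rows` : the row hypothesis applies to `K / Z(K)`, `(S ∩ K)Z(K)/Z(K)`, `(A ∩ K)Z(K)/Z(K)`;
* `Sit.typeA` : in the first case `S ∩ K` is normal in `F_S(G)` and `A ∩ K` consists of nongenerators of `S ∩ K`.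
-/
set_option autoImplicit false

universe u

namespace Cfsg.Agent.H760.Str

open Subgroup Cfsg Cfsg.Agent.H792.MinClosed
open scoped commutatorElement

/-- An element of `p`-power order normalizing a group `X` of order `p` centralizes it. -/
theorem commute_of_card {G : Type*} [Group G] {p : ℕ} [hpf : Fact p.Prime] {X : Subgroup G} (hX : Nat.card X = p) {s : G}
    (hs : ∃ n : ℕ, s ^ p ^ n = 1) (hsX : ∀ x ∈ X, s * x * s⁻¹ ∈ X) {x : G} (hx : x ∈ X) : s * x = x * s := by
  by_cases hx1 : x = 1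
  · rw [hx1, one_mul, mul_one]
  have hfin : Finite X := Nat.finite_of_card_ne_zero (by rw [hX]; exact hpf.out.ne_zero)
  have hox : orderOf x = p := by
    have h1 : orderOf (⟨x, hx⟩ : X) ∣ p := hX ▸ orderOf_dvd_natCard _
    rw [Subgroup.orderOf_mk] at h1
    rcases (Nat.dvd_prime hpf.out).1 h1 with h | h
    · exact absurd (orderOf_eq_one_iff.1 h) hx1
    · exact h
  have hzX : zpowers x = X := by
    refine Subgroup.eq_of_le_of_card_ge (zpowers_le.2 hx) ?_
    rw [Nat.card_zpowers, hox, hX]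
  obtain ⟨k, hk⟩ : ∃ k : ℕ, x ^ k = s * x * s⁻¹ := by
    have h1 : s * x * s⁻¹ ∈ zpowers x := by rw [hzX]; exact hsX x hx
    have hfo : IsOfFinOrder x := by
      rw [← orderOf_pos_iff, hox]; exact hpf.out.pos
    exact (hfo.mem_powers_iff_mem_zpowers.2 h1)
  have hpow : ∀ n : ℕ, s ^ n * x * (s ^ n)⁻¹ = x ^ k ^ n := by
    intro n
    induction n with
    | zero => simp
    | succ n ih =>
      calc s ^ (n + 1) * x * (s ^ (n + 1))⁻¹ = s * (s ^ n * x * (s ^ n)⁻¹) * s⁻¹ := by rw [pow_succ']; group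
        _ = s * (x ^ k ^ n) * s⁻¹ := by rw [ih]
        _ = (s * x * s⁻¹) ^ k ^ n := by rw [conj_pow]
        _ = x ^ k ^ (n + 1) := by rw [← hk, ← pow_mul, pow_succ']
  obtain ⟨n, hn⟩ := hs
  have h1 := hpow (p ^ n)
  rw [hn, one_mul, inv_one, mul_one] at h1
  have h2 : k ^ p ^ n ≡ 1 [MOD p] := by
    have h5 : k ^ p ^ n ≡ 1 [MOD orderOf x] := pow_eq_pow_iff_modEq.1 (by rw [pow_one]; exact h1.symm)
    rwa [hox] at h5
  have h3 : k ≡ 1 [MOD p] := by
    rw [← ZMod.natCast_eq_natCast_iff] at h2 ⊢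
    push_cast at h2 ⊢
    rwa [ZMod.pow_card_pow] at h2
  have h4 : x ^ k = x := by
    conv_rhs => rw [← pow_one x]
    rw [pow_eq_pow_iff_modEq, hox]
    exact h3
  rw [h4] at hk
  calc s * x = (s * x * s⁻¹) * s := by group
    _ = x * s := by rw [← hk]

/-- the `Z*_p`-theorem (S1938) -/
def ZStarHyp (p : ℕ) : Prop :=
  ∀ (K : Type u) [Group K] [Finite K] (P : Sylow p K) (x : K), x ∈ (P : Subgroup K) →
    (∀ g : K, g * x * g⁻¹ ∈ (P : Subgroup K) → g * x * g⁻¹ = x) → InZStar p x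

variable {G : Type u} [Group G] [Finite G] {p : ℕ} [hpf : Fact p.Prime]
variable {S : Sylow p G} {A : Subgroup G}

omit hpf [Finite G] in
theorem not_le_center {K : Subgroup G} (hK : IsComponent K) : ¬ K ≤ centralizer (K : Set G) := by
  intro hc
  refine SignalizersComponents.Components.quasisimple_not_isMulCommutative hK.2 ?_
  refine ⟨⟨fun a b => Subtype.ext ?_⟩⟩
  exact ((mem_centralizer_iff.1 (hc a.2)) b b.2).symm

omit [Finite G] hpf in
/-- `A` centralizes `S ∩ K` if `A ∩ K = 1`. -/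
theorem Sit.commute_of_inf_eq_bot (h : Sit S A) {K : Subgroup G} (hKn : K.Normal) (hbot : A ⊓ K = ⊥) {a s : G} (ha : a ∈ A)
    (hs : s ∈ (S : Subgroup G) ⊓ K) : a * s = s * a := by
  have h1 : s * a⁻¹ * s⁻¹ ∈ A :=
    h.closed.2 a⁻¹ (A.inv_mem ha) s (mul_mem (mul_mem hs.1 (h.closed.1 (A.inv_mem ha))) (inv_mem hs.1))
  have h2 : a * s * a⁻¹ * s⁻¹ ∈ A ⊓ K := by
    constructor
    · have := A.mul_mem ha h1
      have e : a * (s * a⁻¹ * s⁻¹) = a * s * a⁻¹ * s⁻¹ := by group
      rwa [e] at this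
    · exact K.mul_mem (hKn.conj_mem s hs.2 a) (K.inv_mem hs.2)
  rw [hbot, mem_bot] at h2
  calc a * s = (a * s * a⁻¹ * s⁻¹) * (s * a) := by group
    _ = s * a := by rw [h2, one_mul]

/-- `A ∩ K ≠ 1` for the components `K`. -/
theorem Sit.inf_comp_ne_bot (hI : InnerHyp.{u} p) (hZ : ZStarHyp.{u} p) (h : Sit S A) {K : Subgroup G} (hK : IsComponent K) :
    A ⊓ K ≠ ⊥ := by
  intro hbot
  have hKn := h.comp_normal hK
  have hle : A ≤ centralizer (K : Set G) := by
    intro a ha
    obtain ⟨k, c, hk, hcS, hcK, hakc, hkc⟩ := exists_split hI h.core_eq_bot hK S (h.closed.1 ha)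
      (fun q hq => h.commute_of_inf_eq_bot hKn hbot ha hq)
    -- `k` is isolated in `S ∩ K`
    have hiso : ∀ g ∈ K, g * k * g⁻¹ ∈ (S : Subgroup G) → g * k * g⁻¹ = k := by
      intro g hg hgk
      have h3 : g⁻¹ * c = c * g⁻¹ := (mem_centralizer_iff.1 hcK) _ (K.inv_mem hg)
      have h2 : g * a * g⁻¹ = g * k * g⁻¹ * c := by
        rw [hakc]
        calc g * (k * c) * g⁻¹ = g * k * (c * g⁻¹) := by group
          _ = g * k * (g⁻¹ * c) := by rw [h3]
          _ = g * k * g⁻¹ * c := by group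
      have h4 : g * a * g⁻¹ ∈ A := h.closed.2 a ha g (by rw [h2]; exact mul_mem hgk hcS)
      have h5 : g * a * g⁻¹ * a⁻¹ ∈ A ⊓ K := by
        refine ⟨A.mul_mem h4 (A.inv_mem ha), ?_⟩
        have e : g * a * g⁻¹ * a⁻¹ = g * (a * g⁻¹ * a⁻¹) := by group
        rw [e]
        exact K.mul_mem hg (hKn.conj_mem _ (K.inv_mem hg) a)
      rw [hbot, mem_bot] at h5
      have h6 : g * a * g⁻¹ = a := by
        calc g * a * g⁻¹ = (g * a * g⁻¹ * a⁻¹) * a := by group
          _ = a := by rw [h5, one_mul]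
      rw [h2, hakc] at h6
      exact mul_right_cancel h6
    have hQK : ¬ p ∣ (S : Subgroup G).relIndex K :=
      H222.SylowJoin.not_dvd_relIndex_of_subnormal S.2 S.not_dvd_index hK.1
    have hQp : IsPGroup p ↥((S : Subgroup G).subgroupOf K) := S.2.comap_of_injective K.subtype K.subtype_injective
    let P : Sylow p K := hQp.toSylow hQK
    have hz := hZ K P ⟨k, hk.2⟩ hk.1 (by
      intro g hg
      exact Subtype.ext (hiso g g.2 hg))
    have hO : pPrimeCore p K = ⊥ := H12.CompQ.comp_pPrimeCore_eq_bot h.core_eq_bot hK.1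
    have hkc : k ∈ centralizer (K : Set G) := by
      rw [mem_centralizer_iff]
      intro g hg
      have h7 := hz ⟨g, hg⟩
      rw [hO, mem_bot] at h7
      have h8 : g * k * g⁻¹ * k⁻¹ = 1 := congrArg Subtype.val h7
      calc g * k = (g * k * g⁻¹ * k⁻¹) * (k * g) := by group
        _ = k * g := by rw [h8, one_mul]
    rw [hakc]
    exact mul_mem hkc hcK
  have htop : centralizer (K : Set G) = ⊤ := h.top_of_le inferInstance hle
  exact not_le_center hK (by rw [htop]; exact le_top)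

/-! ### The rows -/

/-- `S` is normal in the fusion system and `T` consists of nongenerators -/
def RowA {L : Type*} [Group L] (P T : Subgroup L) : Prop :=
  (groupFusionSystem P).IsNormal P ∧ ∀ X ≤ P, X ⊔ T = P → X = P

/-- `T = Z(P)` has order `p`, `P ≤ J ≤ C(T)` for a perfect group `J` -/
def RowB (p : ℕ) {L : Type*} [Group L] (P T : Subgroup L) : Prop :=
  T = P ⊓ centralizer (P : Set L) ∧ Nat.card T = p ∧ ∃ J : Subgroup L, ⁅J, J⁆ = J ∧ P ≤ J ∧ J ≤ centralizer (T : Set L)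

/-- the row hypothesis -/
def RowFF (p : ℕ) : Prop :=
  ∀ (L : Type u) [Group L] [Finite L] [IsSimpleGroup L], ¬ IsMulCommutative L → ∀ (P : Sylow p L) (T : Subgroup L),
    T ≠ ⊥ → T < (P : Subgroup L) → IsStronglyClosed T (P : Subgroup L) → RowA (P : Subgroup L) T ∨ RowB p (P : Subgroup L) T

/-- the Sylow subgroup of a component modulo the centre -/
def PB (S : Subgroup G) (K : Subgroup G) : Subgroup (K ⧸ center K) := (S.subgroupOf K).map (QuotientGroup.mk' (center K))

theorem Sit.center_le (h : Sit S A) {K : Subgroup G} (hK : IsComponent K) {z : G} (hz : z ∈ K) (hzc : z ∈ centralizer (K : Set G)) :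
    z ∈ pCore p G :=
  SignalizersComponents.BalanceAux.center_component_le_pCore p h.core_eq_bot hK ⟨hz, hzc⟩

theorem exists_PB (S : Sylow p G) {K : Subgroup G} (hK : IsComponent K) :
    ∃ P : Sylow p (K ⧸ center K), (P : Subgroup (K ⧸ center K)) = PB (S : Subgroup G) K := by
  have hQK : ¬ p ∣ (S : Subgroup G).relIndex K :=
    H222.SylowJoin.not_dvd_relIndex_of_subnormal S.2 S.not_dvd_index hK.1
  have hQp : IsPGroup p ↥((S : Subgroup G).subgroupOf K) := S.2.comap_of_injective K.subtype K.subtype_injective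
  let P : Sylow p K := hQp.toSylow hQK
  exact ⟨P.mapSurjective (QuotientGroup.mk'_surjective (center K)), rfl⟩

omit hpf [Finite G] in
theorem mem_center_of {K : Subgroup G} {x : K} : x ∈ center K ↔ (x : G) ∈ centralizer (K : Set G) := by
  rw [mem_center_iff, mem_centralizer_iff]
  constructor
  · intro h y hy
    exact congrArg Subtype.val (h ⟨y, hy⟩)
  · intro h y
    exact Subtype.ext (h y y.2)

omit hpf [Finite G] in
/-- membership in `PB`, when the centre is in `B`. -/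
theorem mem_PB_iff {B K : Subgroup G} (hB : ∀ z ∈ K, z ∈ centralizer (K : Set G) → z ∈ B) (x : K) :
    QuotientGroup.mk' (center K) x ∈ PB B K ↔ (x : G) ∈ B := by
  constructor
  · rintro ⟨y, hy, e⟩
    have h2 : y⁻¹ * x ∈ center K := QuotientGroup.eq.mp e
    have h3 : (y : G) * ((y⁻¹ * x : K) : G) ∈ B := B.mul_mem hy (hB _ (y⁻¹ * x).2 (mem_center_of.1 h2))
    have e2 : (y : G) * ((y⁻¹ * x : K) : G) = x := by push_cast; group
    rwa [e2] at h3
  · intro h
    exact ⟨x, h, rfl⟩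

/-- the row hypothesis in general form -/
theorem Sit.row_of (hI : InnerHyp.{u} p) (hZ : ZStarHyp.{u} p) (h : Sit S A) {K : Subgroup G} (hK : IsComponent K)
    {R : ∀ (L : Type u) [Group L], Subgroup L → Subgroup L → Prop}
    (hR : ∀ (L : Type u) [Group L] [Finite L] [IsSimpleGroup L], ¬ IsMulCommutative L → ∀ (P : Sylow p L) (T : Subgroup L),
      T ≠ ⊥ → T < (P : Subgroup L) → IsStronglyClosed T (P : Subgroup L) → R L (P : Subgroup L) T) :
    R (K ⧸ center K) (PB (S : Subgroup G) K) (PB A K) := by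
  obtain ⟨P, hP⟩ := exists_PB S hK
  have hKn := h.comp_normal hK
  have hZS : ∀ z ∈ K, z ∈ centralizer (K : Set G) → z ∈ (S : Subgroup G) := fun z hz hzc =>
    Lib.Cores.pCore_le_sylow S (h.center_le hK hz hzc)
  have hsimp : IsSimpleGroup (K ⧸ center K) := hK.2.2
  have hnc : ¬ IsMulCommutative (K ⧸ center K) := by
    intro hc
    have h1 : _root_.commutator K ≤ center K := (Normal.quotient_commutative_iff_commutator_le).1 hc
    have h2 : _root_.commutator K = ⊤ := hK.2.1.1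
    rw [h2] at h1
    obtain ⟨x, hx⟩ := exists_ne (1 : K ⧸ center K)
    obtain ⟨y, rfl⟩ := QuotientGroup.mk'_surjective (center K) x
    exact hx ((QuotientGroup.eq_one_iff y).2 (h1 (mem_top y)))
  rw [← hP]
  refine hR (K ⧸ center K) hnc P (PB A K) ?_ ?_ ?_
  · -- `≠ 1`
    intro hbot
    refine h.inf_comp_ne_bot hI hZ hK ?_
    rw [eq_bot_iff]
    intro a ha
    have h1 : QuotientGroup.mk' (center K) ⟨a, ha.2⟩ ∈ PB A K := ⟨⟨a, ha.2⟩, ha.1, rfl⟩
    rw [hbot, mem_bot] at h1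
    have h2 : (⟨a, ha.2⟩ : K) ∈ center K := (QuotientGroup.eq_one_iff _).1 h1
    have h3 := h.center_le hK ha.2 (mem_center_of.1 h2)
    rw [← h.inf_pCore]
    exact ⟨ha.1, h3⟩
  · refine lt_of_le_of_ne (by rw [hP]; exact map_mono fun x hx => h.closed.1 hx) fun e => ?_
    refine h.comp_not_le hK (le_of_proj_eq hK S h.closed fun x hx => ?_)
    have h1 : QuotientGroup.mk' (center K) ⟨x, hx.2⟩ ∈ PB A K := by
      rw [e, hP]
      exact ⟨⟨x, hx.2⟩, hx.1, rfl⟩
    obtain ⟨t, ht, htx⟩ := h1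
    have h2 : t⁻¹ * ⟨x, hx.2⟩ ∈ center K := QuotientGroup.eq.mp htx
    have h3 := mem_center_of.1 h2
    refine ⟨hx, x⁻¹ * t, ?_, ?_⟩
    · have e2 : x⁻¹ * (t : G) = (((t⁻¹ * ⟨x, hx.2⟩ : K) : G))⁻¹ := by push_cast; group
      rw [e2]
      exact inv_mem h3
    · rw [mul_inv_cancel_left]
      exact ht
  · have hQK : ¬ p ∣ (S : Subgroup G).relIndex K :=
      H222.SylowJoin.not_dvd_relIndex_of_subnormal S.2 S.not_dvd_index hK.1
    have hQp : IsPGroup p ↥((S : Subgroup G).subgroupOf K) := S.2.comap_of_injective K.subtype K.subtype_injective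
    let P' : Sylow p K := hQp.toSylow hQK
    have h1 : IsStronglyClosed (A.subgroupOf K) (P' : Subgroup K) := H280.StrongQuot.stronglyClosed_subgroupOf h.closed
    have h2 := H280.StrongQuot.stronglyClosed_map_quotient P' h1 (center K)
    rw [hP]
    exact h2

theorem Sit.rows (hI : InnerHyp.{u} p) (hZ : ZStarHyp.{u} p) (hR : RowFF.{u} p) (h : Sit S A) {K : Subgroup G}
    (hK : IsComponent K) :
    RowA (PB (S : Subgroup G) K) (PB A K) ∨ RowB p (PB (S : Subgroup G) K) (PB A K) :=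
  h.row_of hI hZ hK (R := fun L _ P T => RowA P T ∨ RowB p P T) hR

theorem Sit.typeA (h : Sit S A) {K : Subgroup G} (hK : IsComponent K)
    (hr : RowA (PB (S : Subgroup G) K) (PB A K)) :
    (groupFusionSystem (S : Subgroup G)).IsNormal ((S : Subgroup G) ⊓ K) ∧
      ∀ X ≤ (S : Subgroup G) ⊓ K, X ⊔ (A ⊓ K) = (S : Subgroup G) ⊓ K → X = (S : Subgroup G) ⊓ K := by
  have hKn := h.comp_normal hK
  have hZS : ∀ z ∈ K, z ∈ centralizer (K : Set G) → z ∈ (S : Subgroup G) := fun z hz hzc =>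
    Lib.Cores.pCore_le_sylow S (h.center_le hK hz hzc)
  refine ⟨?_, ?_⟩
  · refine isNormal_of_mod S (Z := K ⊓ centralizer (K : Set G)) hKn inferInstance
      (fun z hz => ⟨hZS z hz.1 hz.2, hz.1⟩) (fun z hz k hk => (mem_centralizer_iff.1 hz.2) k hk.2) ?_
    intro x hx g hg hgx
    have hB : ∀ (y : K ⧸ center K), y ∈ zpowers (QuotientGroup.mk' (center K) ⟨x, hx.2⟩) →
        QuotientGroup.mk' (center K) ⟨g, hg⟩ * y * (QuotientGroup.mk' (center K) ⟨g, hg⟩)⁻¹ ∈ PB (S : Subgroup G) K := by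
      intro y hy
      obtain ⟨k, rfl⟩ := mem_zpowers_iff.1 hy
      rw [← conj_zpow]
      refine zpow_mem ?_ k
      rw [← map_inv, ← map_mul, ← map_mul, mem_PB_iff hZS]
      exact hgx
    obtain ⟨nb, hnb, hnbx⟩ := ctl_of_isNormal hr.1 (zpowers (QuotientGroup.mk' (center K) ⟨x, hx.2⟩))
      (zpowers_le.2 ((mem_PB_iff hZS _).2 hx.1)) (QuotientGroup.mk' (center K) ⟨g, hg⟩) hB
    obtain ⟨n, rfl⟩ := QuotientGroup.mk'_surjective (center K) nb
    refine ⟨n, n.2, Transfer.FusionBasic.mem_normalizer_of_conj_mem fun q hq => ?_, ?_⟩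
    · have h1 : QuotientGroup.mk' (center K) ⟨q, hq.2⟩ ∈ PB (S : Subgroup G) K := (mem_PB_iff hZS _).2 hq.1
      have h2 := (mem_normalizer_iff.1 hnb _).1 h1
      rw [← map_inv, ← map_mul, ← map_mul, mem_PB_iff hZS] at h2
      exact ⟨h2, K.mul_mem (K.mul_mem n.2 hq.2) (K.inv_mem n.2)⟩
    · have h1 := hnbx _ (mem_zpowers _)
      rw [← map_inv, ← map_inv, ← map_mul, ← map_mul, ← map_mul, ← map_mul] at h1
      have h2 : (n * ⟨x, hx.2⟩ * n⁻¹)⁻¹ * ((⟨g, hg⟩ : K) * ⟨x, hx.2⟩ * (⟨g, hg⟩ : K)⁻¹) ∈ center K := QuotientGroup.eq.mp h1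
      exact ⟨((n * ⟨x, hx.2⟩ * n⁻¹)⁻¹ * ((⟨g, hg⟩ : K) * ⟨x, hx.2⟩ * (⟨g, hg⟩ : K)⁻¹)).2, mem_center_of.1 h2⟩
  · intro X hX hXA
    have hXS : X ≤ (S : Subgroup G) := hX.trans inf_le_left
    have h1 : PB X K ⊔ PB A K = PB (S : Subgroup G) K := by
      show (X.subgroupOf K).map _ ⊔ (A.subgroupOf K).map _ = ((S : Subgroup G).subgroupOf K).map _
      rw [← Subgroup.map_sup]
      congr 1
      rw [← inf_subgroupOf_right A K, ← subgroupOf_sup (hX.trans inf_le_right) inf_le_right, hXA,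
        inf_subgroupOf_right]
    have h2 := hr.2 (PB X K) (map_mono fun x hx => hXS hx) h1
    -- every element of `S ∩ K` is in `X Z(K)`
    have h3 : ∀ s ∈ (S : Subgroup G) ⊓ K, ∃ x ∈ X, ∃ z ∈ centralizer (K : Set G), s = x * z := by
      intro s hs
      have h4 : QuotientGroup.mk' (center K) ⟨s, hs.2⟩ ∈ PB (S : Subgroup G) K := (mem_PB_iff hZS _).2 hs.1
      rw [← h2] at h4
      obtain ⟨x, hx, e⟩ := h4
      have h5 : x⁻¹ * ⟨s, hs.2⟩ ∈ center K := QuotientGroup.eq.mp e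
      exact ⟨x, hx, (x : G)⁻¹ * s, mem_center_of.1 h5, by group⟩
    have hcomm : ∀ a ∈ (S : Subgroup G) ⊓ K, ∀ b ∈ (S : Subgroup G) ⊓ K, a * b * a⁻¹ * b⁻¹ ∈ X := by
      intro a ha b hb
      obtain ⟨x, hx, z, hz, rfl⟩ := h3 a ha
      obtain ⟨y, hy, w, hw, rfl⟩ := h3 b hb
      have hxK : x ∈ K := (hX hx).2
      have hyK : y ∈ K := (hX hy).2
      have hzy : y * z = z * y := (mem_centralizer_iff.1 hz) y hyK
      have hzw : w * z = z * w := by
        have hwK : w ∈ K := by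
          have := K.mul_mem (K.inv_mem hyK) hb.2
          rwa [inv_mul_cancel_left] at this
        exact (mem_centralizer_iff.1 hz) w hwK
      have hwx : x * w = w * x := (mem_centralizer_iff.1 hw) x hxK
      have hwy : y * w = w * y := (mem_centralizer_iff.1 hw) y hyK
      have e1 : (x * z) * (y * w) = (x * y) * (z * w) := by
        calc (x * z) * (y * w) = x * (z * y) * w := by group
          _ = x * (y * z) * w := by rw [hzy]
          _ = (x * y) * (z * w) := by group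
      have e2 : (y * w) * (x * z) = (y * x) * (z * w) := by
        calc (y * w) * (x * z) = y * (w * x) * z := by group
          _ = y * (x * w) * z := by rw [hwx]
          _ = (y * x) * (w * z) := by group
          _ = (y * x) * (z * w) := by rw [hzw]
      have e3 : x * z * (y * w) * (x * z)⁻¹ * (y * w)⁻¹ = ((x * z) * (y * w)) * ((y * w) * (x * z))⁻¹ := by group
      rw [e3, e1, e2]
      have e4 : x * y * (z * w) * (y * x * (z * w))⁻¹ = x * y * x⁻¹ * y⁻¹ := by group
      rw [e4]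
      exact mul_mem (mul_mem (mul_mem hx hy) (inv_mem hx)) (inv_mem hy)
    have hQK : ¬ p ∣ (S : Subgroup G).relIndex K :=
      H222.SylowJoin.not_dvd_relIndex_of_subnormal S.2 S.not_dvd_index hK.1
    have hQp : IsPGroup p ↥((S : Subgroup G).subgroupOf K) := S.2.comap_of_injective K.subtype K.subtype_injective
    let P : Sylow p K := hQp.toSylow hQK
    have hPX : _root_.commutator (P : Subgroup K) ≤ (X.subgroupOf K).subgroupOf (P : Subgroup K) := by
      rw [_root_.commutator_def, commutator_le]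
      intro a _ b _
      exact hcomm a ⟨a.2, a.1.2⟩ b ⟨b.2, b.1.2⟩
    refine le_antisymm hX fun s hs => ?_
    obtain ⟨x, hx, z, hz, rfl⟩ := h3 s hs
    have hzK : z ∈ K := by
      have := K.mul_mem (K.inv_mem (hX hx).2) hs.2
      rwa [inv_mul_cancel_left] at this
    have hzc : (⟨z, hzK⟩ : K) ∈ center K := mem_center_of.2 hz
    have h6 := H629.PIndex.mem_commutator_of_perfect (G := K) hK.2.1.1 P ⟨⟨z, hzK⟩, hZS z hzK hz⟩ hzc
    exact X.mul_mem hx (hPX h6)

end Cfsg.Agent.H760.Str
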